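import Cfsg.Prelude.Def_Spor_Ru
import Cfsg.Agent.Known.Sift

/-! The Rudvalis lattice (helper26): real coordinates `rc`, `dot`, `her`, coded vectors `vec`, packed inner products
`linC` (`rowsOk`), `memT`, `orthOk`, unit multiples `un`, `isU`. -/

set_option autoImplicit false

namespace Cfsg.Agent.RuL

open Cfsg.Spor Cfsg.Agent.Comp Finset

def px (k : ℕ) : RuIdx := (⟨k / 4 % 7, Nat.mod_lt _ (by decide)⟩, ⟨k % 4, Nat.mod_lt _ (by decide)⟩)

def ix (p : RuIdx) : ℕ := 4 * p.1 + p.2

theorem px_ix (p : RuIdx) : px (ix p) = p := by revert p; decide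

theorem ix_lt (p : RuIdx) : ix p < 28 := by revert p; decide

theorem ix_px : ∀ k < 28, ix (px k) = k := by decide

theorem sum_px {M : Type*} [AddCommMonoid M] (F : RuIdx → M) : ∑ p, F p = ∑ k ∈ range 28, F (px k) :=
  sum_nbij' ix px (fun p _ => mem_range.2 (ix_lt p)) (fun _ _ => mem_univ _) (fun p _ => px_ix p)
    (fun k hk => ix_px k (mem_range.1 hk)) fun p _ => by rw [px_ix]

/-- real coordinates. -/
def rc (x : RuVec) (q : ℕ) : ℤ := if q < 28 then (x (px q)).re else (x (px (q - 28))).im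

theorem rc_re (x : RuVec) {k : ℕ} (h : k < 28) : rc x k = (x (px k)).re := if_pos h

theorem rc_im (x : RuVec) (k : ℕ) : rc x (28 + k) = (x (px k)).im := by
  rw [rc, if_neg (by omega), Nat.add_sub_cancel_left]

theorem rc_ext {x y : RuVec} (h : ∀ q < 56, rc x q = rc y q) : x = y := funext fun p => by
  have h1 := h (ix p) ((ix_lt p).trans (by decide))
  have h2 := h (28 + ix p) (by have := ix_lt p; omega)
  rw [rc_re _ (ix_lt p), rc_re _ (ix_lt p), px_ix] at h1
  rw [rc_im, rc_im, px_ix] at h2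
  exact Zsqrtd.ext h1 h2

theorem rc_add (x y : RuVec) (q : ℕ) : rc (x + y) q = rc x q + rc y q := by unfold rc; split_ifs <;> rfl

theorem rc_zero (q : ℕ) : rc 0 q = 0 := by unfold rc; split_ifs <;> rfl

def rcH (q : ℕ) : RuVec →+ ℤ := ⟨⟨fun x => rc x q, rc_zero q⟩, fun x y => rc_add x y q⟩

theorem rc_zsmul (n : ℤ) (x : RuVec) (q : ℕ) : rc (n • x) q = n * rc x q := map_zsmul (rcH q) n x

theorem rc_neg (x : RuVec) (q : ℕ) : rc (-x) q = -rc x q := (rcH q).map_neg x

theorem rc_I (x : RuVec) {q : ℕ} (h : q < 56) :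
    rc (gI • x) q = if q < 28 then -rc x (28 + q) else rc x (q - 28) := by
  split_ifs with h1
  · rw [rc_re _ h1, rc_im]; simp [gI]
  · rw [rc, if_neg h1, rc_re _ (by omega)]; simp [gI]

def dot (x y : RuVec) : ℤ := ∑ q ∈ range 56, rc x q * rc y q

def her (x y : RuVec) : GaussianInt := ∑ p, x p * star (y p)

theorem dot_eq (x y : RuVec) : dot x y = ∑ p, ((x p).re * (y p).re + (x p).im * (y p).im) := by
  rw [dot, sum_px, sum_add_distrib, show 56 = 28 + 28 from rfl, sum_range_add]
  simp only [rc_im]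
  rw [sum_congr rfl fun k hk => by rw [rc_re x (mem_range.1 hk), rc_re y (mem_range.1 hk)]]

def reH : GaussianInt →+ ℤ := ⟨⟨Zsqrtd.re, rfl⟩, fun _ _ => rfl⟩

def imH : GaussianInt →+ ℤ := ⟨⟨Zsqrtd.im, rfl⟩, fun _ _ => rfl⟩

theorem her_re (x y : RuVec) : (her x y).re = dot x y := by
  rw [dot_eq]; show reH (∑ p, x p * star (y p)) = _
  rw [map_sum]; exact sum_congr rfl fun p _ => by show (x p * star (y p)).re = _; simp

theorem her_im (x y : RuVec) : (her x y).im = dot x (gI • y) := by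
  rw [dot_eq]; show imH (∑ p, x p * star (y p)) = _
  rw [map_sum]; exact sum_congr rfl fun p _ => by show (x p * star (y p)).im = _; simp [gI]

theorem norm_eq (x : RuVec) : ruNorm x = dot x x := by
  rw [dot_eq]; exact sum_congr rfl fun p _ => by simp [Zsqrtd.norm_def]

theorem dot_comm (x y : RuVec) : dot x y = dot y x := sum_congr rfl fun _ _ => mul_comm _ _

theorem dot_add (x y z : RuVec) : dot (x + y) z = dot x z + dot y z := by
  simp only [dot, rc_add, add_mul, sum_add_distrib]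

def dotH (z : RuVec) : RuVec →+ ℤ := ⟨⟨fun x => dot x z, by simp [dot, rc_zero]⟩, fun x y => dot_add x y z⟩

theorem norm_add (x y : RuVec) : ruNorm (x + y) = ruNorm x + ruNorm y + 2 * dot x y := by
  rw [norm_eq, norm_eq, norm_eq, dot_add, dot_comm x, dot_comm y, dot_add, dot_add, dot_comm y x]; ring

theorem norm_smul (u : GaussianInt) (x : RuVec) : ruNorm (u • x) = u.norm * ruNorm x := by
  simp [ruNorm, Zsqrtd.norm_mul, mul_sum]

theorem her_smul (u v : GaussianInt) (x y : RuVec) : her (u • x) (v • y) = u * star v * her x y := by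
  simp only [her, mul_sum, Pi.smul_apply, smul_eq_mul, star_mul']
  exact sum_congr rfl fun p _ => by ring

theorem eq_zero_of_norm {x : RuVec} (h : ruNorm x = 0) : x = 0 := funext fun p =>
  GaussianInt.norm_eq_zero.1 ((sum_eq_zero_iff_of_nonneg fun p _ => GaussianInt.norm_nonneg _).1 h p (mem_univ _))

/-! ### coded vectors -/

def dg (c q : ℕ) : ℕ := Comp.get 4 15 c q

theorem dg_lt (c q : ℕ) : dg c q < 16 := get_lt (w := 4) rfl c q

def vec (c : ℕ) : RuVec := fun p => ⟨(dg c (ix p) : ℤ) - 8, (dg c (28 + ix p) : ℤ) - 8⟩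

theorem rc_vec (c : ℕ) {q : ℕ} (h : q < 56) : rc (vec c) q = (dg c q : ℤ) - 8 := by
  unfold rc vec
  split_ifs with h1
  · rw [ix_px q h1]
  · rw [ix_px _ (by omega), Nat.add_sub_cancel' (by omega)]

theorem dot_vec_lt (a b : ℕ) : |dot (vec a) (vec b)| < 4096 := by
  refine (abs_sum_le_sum_abs _ _).trans_lt ((sum_le_card_nsmul _ _ 64 fun q hq => ?_).trans_lt (by simp))
  rw [rc_vec _ (mem_range.1 hq), rc_vec _ (mem_range.1 hq), abs_mul]
  have h : ∀ c, |(dg c q : ℤ) - 8| ≤ 8 := fun c => by have := dg_lt c q; rw [abs_le]; omega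
  exact mul_le_mul (h a) (h b) (abs_nonneg _) (by norm_num)

def eqV (v : RuVec) (c : ℕ) : Bool := allLt 56 fun q => decide (rc v q = Int.subNatNat (dg c q) 8)

theorem eqV_spec {v : RuVec} {c : ℕ} (h : eqV v c = true) : v = vec c := rc_ext fun q hq => by
  rw [rc_vec _ hq, of_decide_eq_true (allLt_iff.1 h q hq), Int.subNatNat_eq_coe]; rfl

noncomputable def forceI {β : Type} (x : ℤ) (k : ℤ → β) : β :=
  Int.rec (motive := fun _ => β) (fun n => force n fun n => k (Int.ofNat n)) (fun n => force n fun n => k (Int.negSucc n)) x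

@[simp] theorem forceI_eq {β : Type} (x : ℤ) (k : ℤ → β) : forceI x k = k x := by
  cases x <;> simp only [forceI, force_eq]

noncomputable def linC (C : List ℤ) : ℕ → ℤ :=
  List.rec (motive := fun _ => ℕ → ℤ) (fun _ => Int.ofNat 0) (fun k _ ih c => force (Nat.land c 15) fun d =>
    force (Nat.shiftRight c 4) fun c' => bif' (Nat.beq d 8) (ih c')
      (forceI (ih c') fun s => Int.add (Int.mul (Int.subNatNat d 8) k) s)) C

theorem linC_eq (C : List ℤ) : ∀ c, linC C c = ∑ q ∈ range C.length, ((dg c q : ℤ) - 8) * C.getD q 0 := by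
  induction C with
  | nil => intro c; rfl
  | cons k C ih =>
    intro c
    have e : linC (k :: C) c = force (Nat.land c 15) fun d => force (Nat.shiftRight c 4) fun c' =>
      bif' (Nat.beq d 8) (linC C c') (forceI (linC C c') fun s => Int.add (Int.mul (Int.subNatNat d 8) k) s) := rfl
    have h : ∀ q, dg c (q + 1) = dg (Nat.shiftRight c 4) q := fun q => by
      show c >>> (4 * (q + 1)) &&& 15 = (c >>> 4) >>> (4 * q) &&& 15
      rw [← Nat.shiftRight_add, Nat.mul_succ, add_comm]
    rw [e, force_eq, force_eq, forceI_eq, bif'_eq, List.length_cons, sum_range_succ', ih]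
    simp only [h, List.getD_cons_succ, List.getD_cons_zero, nbeq]
    rw [show dg c 0 = Nat.land c 15 from rfl]
    split_ifs with h1
    · rw [h1]; simp
    · rw [add_comm, Int.subNatNat_eq_coe]; rfl

noncomputable def hor (uc : List ℕ) (q : ℕ) : ℤ :=
  List.rec (motive := fun _ => ℤ) (Int.ofNat 0)
    (fun u _ ih => forceI ih fun s => Int.add (Int.subNatNat (dg u q) 8) (Int.mul (Int.ofNat 8192) s)) uc

theorem hor_eq (uc : List ℕ) (q : ℕ) :
    hor uc q = ∑ j ∈ range uc.length, ((dg (uc.getD j 0) q : ℤ) - 8) * 8192 ^ j := by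
  induction uc with
  | nil => rfl
  | cons u uc ih =>
    have e : hor (u :: uc) q = forceI (hor uc q) fun s =>
      Int.add (Int.subNatNat (dg u q) 8) (Int.mul (Int.ofNat 8192) s) := rfl
    rw [e, forceI_eq, List.length_cons, sum_range_succ', ih, Int.subNatNat_eq_coe]
    show ((dg u q : ℤ) - 8) + 8192 * (∑ j ∈ range uc.length, ((dg (uc.getD j 0) q : ℤ) - 8) * 8192 ^ j) = _
    simp only [mul_sum, List.getD_cons_succ, List.getD_cons_zero, pow_succ]
    rw [add_comm, pow_zero, mul_one]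
    exact congrArg₂ _ (sum_congr rfl fun _ _ => by ring) rfl

noncomputable def rowsOk (uc : List ℕ) (C : List ℤ) : Bool :=
  band (Nat.beq (lenL C) 56) (allLt 56 fun q => decide (nthL 0 C q = hor uc q))

theorem linC_rows {uc : List ℕ} {C : List ℤ} (h : rowsOk uc C = true) (c : ℕ) :
    linC C c = ∑ j ∈ range uc.length, dot (vec c) (vec (uc.getD j 0)) * 8192 ^ j := by
  simp only [rowsOk, band_eq, Bool.and_eq_true, nbeq, lenL_eq, allLt_iff, decide_eq_true_eq, nthL_eq] at h
  rw [linC_eq, h.1]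
  simp only [dot, sum_mul]
  rw [sum_comm]
  refine sum_congr rfl fun q hq => ?_
  rw [h.2 q (mem_range.1 hq), hor_eq, mul_sum]
  exact sum_congr rfl fun j _ => by rw [rc_vec _ (mem_range.1 hq), rc_vec _ (mem_range.1 hq), mul_assoc]

theorem dig {B : ℤ} (hB : 0 < B) : ∀ (n : ℕ) (a : ℕ → ℤ), (∀ j < n, 0 ≤ a j ∧ a j < B) →
    ∀ j < n, (∑ i ∈ range n, a i * B ^ i) / B ^ j % B = a j
  | 0, _, _, _, h => absurd h (Nat.not_lt_zero _)
  | n + 1, a, ha, j, hj => by
    have e : ∑ i ∈ range (n + 1), a i * B ^ i = a 0 + B * ∑ i ∈ range n, a (i + 1) * B ^ i := by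
      rw [sum_range_succ', mul_sum, add_comm, pow_zero, mul_one]
      exact congrArg _ (sum_congr rfl fun _ _ => by ring)
    have h0 := ha 0 n.succ_pos
    rw [e]
    cases j with
    | zero => rw [pow_zero, Int.ediv_one, Int.add_mul_emod_self_left, Int.emod_eq_of_lt h0.1 h0.2]
    | succ j =>
      rw [pow_succ', ← Int.ediv_ediv_of_nonneg hB.le, Int.add_mul_ediv_left _ _ hB.ne', Int.ediv_eq_zero_of_lt h0.1 h0.2,
        zero_add]
      exact dig hB n (fun i => a (i + 1)) (fun i hi => ha _ (by omega)) j (by omega)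

theorem dig' {n : ℕ} {a : ℕ → ℤ} (ha : ∀ j < n, |a j| < 4096) {j : ℕ} (hj : j < n) :
    (∑ i ∈ range n, a i * 8192 ^ i + ∑ i ∈ range n, 4096 * 8192 ^ i) / 8192 ^ j % 8192 = a j + 4096 := by
  rw [← sum_add_distrib]
  simp only [← add_mul]
  exact dig (by norm_num) n (fun i => a i + 4096) (fun i hi => by have := abs_lt.1 (ha i hi); omega) j hj

theorem pk_inj {n : ℕ} {a b : ℕ → ℤ} (ha : ∀ j < n, |a j| < 4096) (hb : ∀ j < n, |b j| < 4096)
    (h : ∑ i ∈ range n, a i * 8192 ^ i = ∑ i ∈ range n, b i * 8192 ^ i) {j : ℕ} (hj : j < n) : a j = b j := by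
  have := dig' ha hj
  rw [h, dig' hb hj] at this
  omega

def off : ℤ := Int.ofNat (nat_lit 0x80040020010008004002001000800400200100080040020010008004002001000800400200100080040020010008004002001000800400200100080040020010008004002001000800400200100080040020010008004002001000)

theorem off_eq : off = ∑ i ∈ range 56, 4096 * 8192 ^ i := by decide +kernel

/-- all inner products with the rows are divisible by four. -/
noncomputable def memT (C : List ℤ) (c : ℕ) : Bool :=
  Int.rec (motive := fun _ => Bool) (fun Q => force Q fun Q => allLt 56 fun j => Nat.beq (Comp.get 13 3 Q j) 0)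
    (fun _ => false) (Int.add (linC C c) off)

theorem memT_spec {uc : List ℕ} {C : List ℤ} (h : rowsOk uc C = true) (hl : uc.length = 56) {c : ℕ}
    (hc : memT C c = true) : ∀ u ∈ uc, 4 ∣ dot (vec c) (vec u) := by
  intro u hu
  obtain ⟨j, hj, rfl⟩ := List.getElem_of_mem hu
  have h1 := dig' (n := 56) (a := fun j => dot (vec c) (vec (uc.getD j 0))) (fun _ _ => dot_vec_lt _ _) (hl ▸ hj)
  rw [← off_eq, ← hl, ← linC_rows h, List.getD_eq_getElem _ _ hj] at h1
  unfold memT at hc
  rw [show Int.add (linC C c) off = linC C c + off from rfl] at hc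
  generalize linC C c + off = S at h1 hc
  cases S with
  | negSucc => exact absurd hc Bool.false_ne_true
  | ofNat Q =>
    have hc' : allLt 56 (fun j => Nat.beq (Comp.get 13 3 Q j) 0) = true :=
      (force_eq Q fun Q => allLt 56 fun j => Nat.beq (Comp.get 13 3 Q j) 0).symm.trans hc
    have h2 : Q >>> (13 * j) &&& (2 ^ 2 - 1) = 0 := nbeq.1 (allLt_iff.1 hc' j (hl ▸ hj))
    rw [Nat.and_two_pow_sub_one_eq_mod, Nat.shiftRight_eq_div_pow, pow_mul] at h2
    have h3 : ((Q / (2 ^ 13) ^ j : ℕ) : ℤ) = Int.ofNat Q / 8192 ^ j := by push_cast; rfl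
    omega

noncomputable def dz (l : List (ℕ × ℕ)) (q q' : ℕ) : ℤ :=
  List.rec (motive := fun _ => ℤ) (Int.ofNat 0) (fun p _ ih => force (dg p.1 q) fun d => bif' (Nat.beq d 8) ih
    (forceI ih fun s => Int.add (Int.mul (Int.subNatNat d 8) (Int.subNatNat (dg p.2 q') 8)) s)) l

theorem dz_eq (l : List (ℕ × ℕ)) (q q' : ℕ) :
    dz l q q' = (l.map fun p => ((dg p.1 q : ℤ) - 8) * ((dg p.2 q' : ℤ) - 8)).sum := by
  induction l with
  | nil => rfl
  | cons p l ih =>
    have e : dz (p :: l) q q' = force (dg p.1 q) fun d => bif' (Nat.beq d 8) (dz l q q') (forceI (dz l q q') fun s =>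
      Int.add (Int.mul (Int.subNatNat d 8) (Int.subNatNat (dg p.2 q') 8)) s) := rfl
    rw [e, force_eq, forceI_eq, bif'_eq, List.map_cons, List.sum_cons, ih]
    simp only [nbeq]
    split_ifs with h1
    · rw [h1]; simp
    · rw [Int.subNatNat_eq_coe, Int.subNatNat_eq_coe]; rfl

noncomputable def orthOk (l : List (ℕ × ℕ)) (k : ℤ) : Bool :=
  allLt 56 fun q => allLt 56 fun q' => decide (dz l q q' = bif' (Nat.beq q q') k (Int.ofNat 0))

theorem orth_rc {l : List (ℕ × ℕ)} {k : ℤ} (h : orthOk l k = true) (x : RuVec) {q : ℕ} (hq : q < 56) :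
    (l.map fun p => dot x (vec p.2) * rc (vec p.1) q).sum = k * rc x q := by
  have h1 : ∀ l : List (ℕ × ℕ), (l.map fun p => dot x (vec p.2) * rc (vec p.1) q).sum =
      ∑ q' ∈ range 56, rc x q' * dz l q q' := fun l => by
    simp only [dz_eq]
    induction l with
    | nil => simp
    | cons p l ih =>
      simp only [List.map_cons, List.sum_cons, ih, mul_add, sum_add_distrib]
      rw [dot, sum_mul]
      exact congrArg₂ _ (sum_congr rfl fun q' hq' => by rw [rc_vec _ hq, rc_vec _ (mem_range.1 hq')]; ring) rfl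
  rw [h1, sum_eq_single q (fun q' hq' e => ?_) fun h => absurd (mem_range.2 hq) h]
  · rw [of_decide_eq_true (allLt_iff.1 (allLt_iff.1 h q hq) q hq), bif'_eq, if_pos (nbeq.2 rfl), mul_comm]
  · rw [of_decide_eq_true (allLt_iff.1 (allLt_iff.1 h q hq) q' (mem_range.1 hq')), bif'_eq,
      if_neg fun e' => e (nbeq.1 e').symm]
    exact mul_zero _

theorem orth_sum {l : List (ℕ × ℕ)} {k : ℤ} (h : orthOk l k = true) (x : RuVec) :
    (l.map fun p => dot x (vec p.2) • vec p.1).sum = k • x := rc_ext fun q hq => by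
  rw [rc_zsmul, ← orth_rc h x hq]
  exact (map_list_sum (rcH q) _).trans (by simp only [List.map_map, Function.comp_def, map_zsmul]; rfl)

/-! ### units -/

def un (u : ℕ) : GaussianInt := (if 2 ≤ u then -1 else 1) * (if u.testBit 0 then gI else 1)

theorem un_norm (u : ℕ) : (un u).norm = 1 := by unfold un; split_ifs <;> rfl

theorem exists_un {v : GaussianInt} (h : v.norm = 1) : ∃ u < 4, v = un u := by
  obtain ⟨a, b⟩ := v
  simp only [Zsqrtd.norm_def] at h
  have h1 : -1 ≤ a ∧ a ≤ 1 := by constructor <;> nlinarith [mul_self_nonneg a, mul_self_nonneg b]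
  have h2 : -1 ≤ b ∧ b ≤ 1 := by constructor <;> nlinarith [mul_self_nonneg a, mul_self_nonneg b]
  obtain ⟨h1, h1'⟩ := h1
  obtain ⟨h2, h2'⟩ := h2
  interval_cases a <;> interval_cases b <;> first | omega | decide

def udg (u c q : ℕ) : ℕ :=
  force (bif' (tb u 0) (bif' (Nat.blt q 28) (Nat.sub 16 (dg c (Nat.add 28 q))) (dg c (Nat.sub q 28))) (dg c q))
    fun d => bif' (Nat.ble 2 u) (Nat.sub 16 d) d

theorem rc_un (u c : ℕ) {q : ℕ} (h : q < 56) : rc (un u • vec c) q = (udg u c q : ℤ) - 8 := by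
  have h1 := dg_lt c q
  have h2 := dg_lt c (28 + q)
  have h3 := dg_lt c (q - 28)
  simp only [un, udg, force_eq, bif'_eq, tb_eq, nblt, nble, Nat.sub_eq, Nat.add_eq]
  split_ifs with a b c <;>
    simp only [one_mul, neg_mul, neg_smul, one_smul, rc_neg, rc_I _ h, *, if_true, if_false] <;>
    rw [rc_vec _ (by omega)] <;> omega

def isU (u c c' : ℕ) : Bool := allLt 56 fun q => Nat.beq (dg c' q) (udg u c q)

theorem isU_spec {u c c' : ℕ} (h : isU u c c' = true) : vec c' = un u • vec c := rc_ext fun q hq => by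
  rw [rc_un _ _ hq, rc_vec _ hq, nbeq.1 (allLt_iff.1 h q hq)]

end Cfsg.Agent.RuL
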