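import Cfsg.Agent.RuL.A
import Cfsg.Agent.Comp.Class

/-! The Rudvalis lattice (helper26): selections `Sel` of binary vectors, the enumerations `asp`, `sub`, `solve`, xor sums
`xs`, and the soundness `heavy_spec` of the test `heavy` on the parity word of a short lattice vector. -/

set_option autoImplicit false

namespace Cfsg.Agent.RuL

open Cfsg.Spor Cfsg.Agent.Comp Finset

inductive Sel : List ℕ → ℕ → ℕ → Prop
  | nil : Sel [] 0 0
  | skip {v : ℕ} {vs : List ℕ} {k a : ℕ} : Sel vs k a → Sel (v :: vs) k a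
  | take {v : ℕ} {vs : List ℕ} {k a : ℕ} : Sel vs k a → Sel (v :: vs) (k + 1) (v ^^^ a)

theorem Sel.zero : ∀ vs, Sel vs 0 0
  | [] => .nil
  | _ :: vs => .skip (zero vs)

theorem Sel.eq_zero {vs : List ℕ} {k a : ℕ} (h : Sel vs k a) (hk : k = 0) : a = 0 := by
  induction h with
  | nil => rfl
  | skip _ ih => exact ih hk
  | take => omega

theorem xor4 (a b c d : ℕ) : a ^^^ b ^^^ (c ^^^ d) = a ^^^ c ^^^ (b ^^^ d) := by ac_rfl

theorem Sel.xor {vs : List ℕ} {k a : ℕ} (h : Sel vs k a) : ∀ {k' b : ℕ}, Sel vs k' b → ∃ m, Sel vs m (a ^^^ b) := by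
  induction h with
  | nil => intro _ _ h; cases h; exact ⟨_, .nil⟩
  | skip _ ih =>
    intro _ _ h
    cases h with
    | skip h => exact (ih h).imp fun _ => .skip
    | take h => obtain ⟨m, hm⟩ := ih h; exact ⟨_, by rw [Nat.xor_left_comm]; exact .take hm⟩
  | take _ ih =>
    intro _ _ h
    cases h with
    | skip h => obtain ⟨m, hm⟩ := ih h; exact ⟨_, by rw [Nat.xor_assoc]; exact .take hm⟩
    | take h => obtain ⟨m, hm⟩ := ih h; exact ⟨_, by rw [xor4, Nat.xor_self, Nat.zero_xor]; exact .skip hm⟩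

theorem Sel.append {l₂ : List ℕ} : ∀ {l₁ : List ℕ} {k a : ℕ}, Sel (l₁ ++ l₂) k a →
    ∃ k₁ a₁ k₂ a₂, Sel l₁ k₁ a₁ ∧ Sel l₂ k₂ a₂ ∧ a = a₁ ^^^ a₂
  | [], _, _, h => ⟨_, _, _, _, .nil, h, (Nat.zero_xor _).symm⟩
  | _ :: _, _, _, h => by
    cases h with
    | skip h => obtain ⟨_, _, _, _, h1, h2, e⟩ := h.append; exact ⟨_, _, _, _, .skip h1, h2, e⟩
    | take h => obtain ⟨_, _, _, _, h1, h2, e⟩ := h.append; exact ⟨_, _, _, _, .take h1, h2, by rw [e, Nat.xor_assoc]⟩

noncomputable def asp (κ : ℕ → Bool) (vs : List ℕ) : ℕ → Bool :=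
  List.rec (motive := fun _ => ℕ → Bool) κ (fun v _ ih s => band (ih s) (force (Nat.xor s v) ih)) vs

theorem asp_spec {κ : ℕ → Bool} {vs : List ℕ} {k a : ℕ} (h : Sel vs k a) :
    ∀ s, asp κ vs s = true → κ (s ^^^ a) = true := by
  have e : ∀ v vs s, asp κ (v :: vs) s = band (asp κ vs s) (force (s ^^^ v) (asp κ vs)) := fun _ _ _ => rfl
  induction h with
  | nil => intro s h; rw [Nat.xor_zero]; exact h
  | skip _ ih => intro s h; rw [e, band_eq, Bool.and_eq_true] at h; exact ih _ h.1
  | take _ ih => intro s h; rw [e, band_eq, Bool.and_eq_true, force_eq] at h; rw [← Nat.xor_assoc]; exact ih _ h.2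

noncomputable def sub (κ : ℕ → Bool) (vs : List ℕ) : ℕ → ℕ → Bool :=
  List.rec (motive := fun _ => ℕ → ℕ → Bool) (fun _ s => κ s) (fun v _ ih k s =>
    Nat.rec (motive := fun _ => Bool) (κ s) (fun k' _ => band (ih k s) (force (Nat.xor s v) (ih k'))) k) vs

theorem sub_spec {κ : ℕ → Bool} {vs : List ℕ} {m a : ℕ} (h : Sel vs m a) :
    ∀ k s, m ≤ k → sub κ vs k s = true → κ (s ^^^ a) = true := by
  have e : ∀ v vs k s, sub κ (v :: vs) (k + 1) s = band (sub κ vs (k + 1) s) (force (s ^^^ v) (sub κ vs k)) :=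
    fun _ _ _ _ => rfl
  induction h with
  | nil => intro _ s _ h; rw [Nat.xor_zero]; exact h
  | skip h ih =>
    intro k s hk h'
    cases k with
    | zero => rw [h.eq_zero (by omega), Nat.xor_zero]; exact h'
    | succ k => rw [e, band_eq, Bool.and_eq_true] at h'; exact ih _ _ hk h'.1
  | take _ ih =>
    intro k s hk h'
    obtain ⟨k, rfl⟩ : ∃ k', k = k' + 1 := ⟨k - 1, by omega⟩
    rw [e, band_eq, Bool.and_eq_true, force_eq] at h'
    rw [← Nat.xor_assoc]; exact ih _ _ (by omega) h'.2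

def piv (b v w : ℕ) : ℕ := bif' (tb w b) (Nat.xor w v) w

theorem piv_eq (b v w : ℕ) : piv b v w = if w.testBit b then w ^^^ v else w := by rw [piv, bif'_eq, tb_eq]; rfl

theorem piv_xor (b v w w' : ℕ) : piv b v (w ^^^ w') = piv b v w ^^^ piv b v w' := by
  simp only [piv_eq, Nat.testBit_xor]
  cases w.testBit b <;> cases w'.testBit b <;> simp only [Bool.xor_self, Bool.false_eq_true, if_false, Bool.xor_true,
    Bool.xor_false, Bool.not_false, if_true, Bool.not_true]
  · rw [Nat.xor_assoc]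
  · ac_rfl
  · rw [xor4, Nat.xor_self, Nat.xor_zero]

theorem Sel.piv (b v : ℕ) {vs : List ℕ} {k a : ℕ} (h : Sel vs k a) : Sel (vs.map (piv b v)) k (piv b v a) := by
  induction h with
  | nil => rw [piv_eq, if_neg (by simp)]; exact .nil
  | skip _ ih => exact .skip ih
  | take _ ih => rw [piv_xor]; exact .take ih

noncomputable def solve (M : ℕ) (κ : ℕ → Bool) (n : ℕ) : List ℕ → ℕ → Bool :=
  Nat.rec (motive := fun _ => List ℕ → ℕ → Bool) (fun _ _ => false) (fun _ ih vs s =>
    List.rec (motive := fun _ => Bool) (bif' (Nat.beq (Nat.land s M) 0) (κ s) true) (fun v vs _ =>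
      force (Nat.land v M) fun c => force (Nat.log2 c) fun b => bif' (tb c b)
        (forceL (mapL (piv b v) vs) fun vs' => force (piv b v s) (ih vs'))
        (band (ih vs s) (force (Nat.xor s v) (ih vs)))) vs) n

theorem solve_spec {M : ℕ} {κ : ℕ → Bool} : ∀ (n : ℕ) {vs : List ℕ} {k a s : ℕ}, Sel vs k a →
    solve M κ n vs s = true → (s ^^^ a) &&& M = 0 → κ (s ^^^ a) = true
  | 0, _, _, _, _, _, h, _ => absurd h Bool.false_ne_true
  | n + 1, [], _, _, s, hs, h, h0 => by
    cases hs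
    rw [Nat.xor_zero] at h0 ⊢
    have e : solve M κ (n + 1) [] s = bif' (Nat.beq (s &&& M) 0) (κ s) true := rfl
    rwa [e, h0] at h
  | n + 1, v :: vs, _, a, s, hs, h, h0 => by
    have e : solve M κ (n + 1) (v :: vs) s = force (v &&& M) fun c => force (Nat.log2 c) fun b => bif' (tb c b)
      (forceL (mapL (piv b v) vs) fun vs' => force (piv b v s) (solve M κ n vs'))
      (band (solve M κ n vs s) (force (s ^^^ v) (solve M κ n vs))) := rfl
    simp only [e, force_eq, forceL_eq, mapL_eq, bif'_eq, tb_eq, band_eq, Nat.testBit_and, Bool.and_eq_true] at h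
    generalize Nat.log2 _ = b at h
    split_ifs at h with hb
    · have h1 : s ^^^ a = piv b v s ^^^ piv b v a := by
        have := congrArg (·.testBit b) h0
        simp only [Nat.testBit_and, hb.2, Bool.and_true, Nat.zero_testBit] at this
        rw [← piv_xor, piv_eq, if_neg (by rw [this]; simp)]
      rw [h1] at h0 ⊢
      cases hs with
      | skip hs => exact solve_spec n (hs.piv b v) h h0
      | take hs =>
        rw [piv_xor, piv_eq b v v, if_pos hb.1, Nat.xor_self, Nat.zero_xor] at h0 ⊢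
        exact solve_spec n (hs.piv b v) h h0
    · rw [Bool.and_eq_true] at h
      cases hs with
      | skip hs => exact solve_spec n hs h.1 h0
      | take hs => rw [← Nat.xor_assoc] at h0 ⊢; exact solve_spec n hs h.2 h0

/-! ### xor sums -/

noncomputable def xs (f : ℕ → ℕ) (r : ℕ → Bool) (l : List ℕ) : ℕ :=
  List.rec (motive := fun _ => ℕ) 0 (fun q _ ih => bif' (r q) (Nat.xor (f q) ih) ih) l

theorem xs_cons (f : ℕ → ℕ) (r : ℕ → Bool) (q : ℕ) (l : List ℕ) :
    xs f r (q :: l) = if r q then f q ^^^ xs f r l else xs f r l := bif'_eq _ _ _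

theorem xs_sel (f : ℕ → ℕ) (r : ℕ → Bool) (l : List ℕ) : Sel (l.map f) (l.countP r) (xs f r l) := by
  induction l with
  | nil => exact .nil
  | cons q l ih =>
    rw [xs_cons, List.countP_cons]
    split_ifs
    exacts [.take ih, .skip ih]

theorem xs_filter (f : ℕ → ℕ) (r p : ℕ → Bool) (l : List ℕ) :
    xs f r l = xs f r (l.filter fun q => !p q) ^^^ xs f r (l.filter p) := by
  induction l with
  | nil => exact (Nat.xor_zero 0).symm
  | cons q l ih =>
    rw [xs_cons, ih, List.filter_cons, List.filter_cons]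
    cases p q <;> simp only [Bool.not_false, Bool.not_true, if_true, Bool.false_eq_true, if_false, xs_cons] <;>
      split_ifs <;> ac_rfl

theorem xs_xor (f : ℕ → ℕ) (r r' : ℕ → Bool) (l : List ℕ) :
    xs f (fun q => r q ^^ r' q) l = xs f r l ^^^ xs f r' l := by
  induction l with
  | nil => exact (Nat.xor_zero 0).symm
  | cons q l ih =>
    simp only [xs_cons, ih]
    cases r q <;> cases r' q <;> simp only [Bool.xor_self, Bool.false_eq_true, if_false, Bool.xor_true,
      Bool.xor_false, Bool.not_false, if_true, Bool.not_true]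
    · ac_rfl
    · ac_rfl
    · rw [xor4, Nat.xor_self, Nat.zero_xor]

theorem xs_congr {f f' : ℕ → ℕ} {r r' : ℕ → Bool} {l : List ℕ} (h : ∀ q ∈ l, f q = f' q ∧ r q = r' q) :
    xs f r l = xs f' r' l := by
  induction l with
  | nil => rfl
  | cons q l ih =>
    rw [xs_cons, xs_cons, ih fun q hq => h q (List.mem_cons_of_mem _ hq), (h q List.mem_cons_self).1,
      (h q List.mem_cons_self).2]

theorem xs_shift (f : ℕ → ℕ) (r : ℕ → Bool) (n : ℕ) (l : List ℕ) : xs f r l >>> n = xs (fun q => f q >>> n) r l := by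
  induction l with
  | nil => exact Nat.zero_shiftRight _
  | cons q l ih => rw [xs_cons, xs_cons, ← ih]; split_ifs; exacts [Nat.shiftRight_xor_distrib, rfl]

theorem xs_bit {f d : ℕ → ℕ} (r : ℕ → Bool) {i : ℕ} {l : List ℕ} (h : ∀ q ∈ l, ((f q).testBit i).toNat = d q % 2) :
    ((xs f r l).testBit i).toNat = (l.map fun q => (r q).toNat * d q).sum % 2 := by
  induction l with
  | nil => simp [xs]
  | cons q l ih =>
    have h1 := ih fun q hq => h q (List.mem_cons_of_mem _ hq)
    have h2 := h q List.mem_cons_self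
    rw [xs_cons, List.map_cons, List.sum_cons]
    cases r q
    · simpa using h1
    · rw [if_pos rfl, Nat.testBit_xor]
      revert h1 h2
      cases (f q).testBit i <;> cases (xs f r l).testBit i <;> simp <;> omega

def dn : ℕ → List ℕ
  | 0 => []
  | n + 1 => n :: dn n

theorem mem_dn {q : ℕ} : ∀ {n : ℕ}, q ∈ dn n → q < n
  | n + 1, h => (List.mem_cons.1 h).elim (fun e => by omega) fun h => (mem_dn h).trans n.lt_succ_self

theorem sum_dn (g : ℕ → ℕ) : ∀ n, ((dn n).map g).sum = ∑ q ∈ range n, g q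
  | 0 => rfl
  | n + 1 => by rw [dn, List.map_cons, List.sum_cons, sum_dn g n, sum_range_succ, add_comm]

theorem sum_filter' (g : ℕ → ℕ) (p : ℕ → Bool) (l : List ℕ) :
    ((l.filter p).map g).sum = (l.map fun q => (p q).toNat * g q).sum := by
  induction l with
  | nil => rfl
  | cons q l ih => rw [List.filter_cons]; cases hp : p q <;> simp [ih, hp]

theorem countP_sum (r : ℕ → Bool) (l : List ℕ) : l.countP r = (l.map fun q => (r q).toNat).sum := by
  induction l with
  | nil => rfl
  | cons q l ih => rw [List.countP_cons, ih]; cases hr : r q <;> simp [hr, add_comm]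

def p13 (q : ℕ) : ℕ := Nat.shiftLeft 1 (Nat.mul 13 q)

theorem p13_eq (q : ℕ) : p13 q = 2 ^ (13 * q) := Nat.one_shiftLeft _

theorem xor_two_pow {a k : ℕ} (h : a < 2 ^ k) : 2 ^ k ^^^ a = 2 ^ k + a := Nat.eq_of_testBit_eq fun i => by
  rw [← mul_one (2 ^ k), Nat.two_pow_add_eq_or_of_lt h, mul_one, Nat.testBit_xor, Nat.testBit_or, Nat.testBit_two_pow]
  by_cases e : k = i
  · rw [← e, Nat.testBit_lt_two_pow h]; simp
  · simp [e]

theorem xs_pow (r : ℕ → Bool) : ∀ n, xs p13 r (dn n) = ∑ q ∈ range n, (r q).toNat * 8192 ^ q ∧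
    xs p13 r (dn n) < 2 ^ (13 * n) ∧ ∀ q < n, (xs p13 r (dn n)).testBit (13 * q) = r q
  | 0 => ⟨rfl, Nat.one_pos, fun _ h => absurd h (Nat.not_lt_zero _)⟩
  | n + 1 => by
    obtain ⟨h1, h2, h3⟩ := xs_pow r n
    have e : 2 ^ (13 * (n + 1)) = 8192 * 2 ^ (13 * n) := by ring
    rw [dn, xs_cons, p13_eq, sum_range_succ, ← h1, e]
    refine ⟨?_, ?_, fun q hq => ?_⟩
    · cases r n
      · simp
      · rw [if_pos rfl, xor_two_pow h2, pow_mul, add_comm]; simp
    · split_ifs
      · rw [xor_two_pow h2]; omega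
      · omega
    · rcases Nat.lt_succ_iff_lt_or_eq.1 hq with hq | rfl
      · split_ifs
        · rw [Nat.testBit_xor, Nat.testBit_two_pow_of_ne (by omega), h3 q hq, Bool.false_xor]
        · exact h3 q hq
      · cases r q
        · exact Nat.testBit_lt_two_pow h2
        · rw [if_pos rfl, Nat.testBit_xor, Nat.testBit_lt_two_pow h2, Nat.testBit_two_pow_self]; rfl

end Cfsg.Agent.RuL
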