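import Cfsg.Agent.RuL.B

/-! The Rudvalis lattice (helper26): parity words `EE`, the test `heavy` and its soundness `heavy_spec`, packed
coordinates `pv`, the table test `chk`. -/

set_option autoImplicit false

namespace Cfsg.Agent.RuL

open Cfsg.Spor Cfsg.Agent.Comp Finset

def eb (x : RuVec) (q : ℕ) : Bool := decide (rc x q % 2 = 1)

def rb (x : RuVec) (q : ℕ) : Bool := decide (rc x q / 2 % 2 = 1)

noncomputable def EE (x : RuVec) : ℕ := xs p13 (eb x) (dn 56)

theorem EE_add (x y : RuVec) : EE (x + y) = EE x ^^^ EE y := by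
  rw [EE, EE, EE, ← xs_xor]
  refine xs_congr fun q _ => ⟨rfl, ?_⟩
  simp only [eb, rc_add]
  rcases Int.emod_two_eq_zero_or_one (rc x q) with h | h <;> rcases Int.emod_two_eq_zero_or_one (rc y q) with h' | h' <;>
    simp [Int.add_emod, h, h']

theorem EE_neg (x : RuVec) : EE (-x) = EE x := xs_congr fun q _ => ⟨rfl, by simp [eb, rc_neg]⟩

theorem EE_zero : EE 0 = 0 := by decide +kernel

def pv (x : RuVec) : ℤ := ∑ q ∈ range 56, rc x q * 8192 ^ q

theorem pv_inj {x y : RuVec} (hx : ∀ q < 56, |rc x q| < 4096) (hy : ∀ q < 56, |rc y q| < 4096) (h : pv x = pv y) :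
    x = y := rc_ext fun _ hq => pk_inj hx hy h hq

theorem pv_neg (x : RuVec) : pv (-x) = -pv x := by simp only [pv, rc_neg, neg_mul, sum_neg_distrib]

theorem pv_zsmul (n : ℤ) (x : RuVec) : pv (n • x) = n * pv x := by simp only [pv, rc_zsmul, mul_sum, mul_assoc]

noncomputable def sumL (g : ℕ → ℕ) (l : List ℕ) : ℕ := List.rec (motive := fun _ => ℕ) 0 (fun q _ ih => Nat.add (g q) ih) l

theorem sumL_eq (g : ℕ → ℕ) (l : List ℕ) : sumL g l = (l.map g).sum := by
  induction l with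
  | nil => rfl
  | cons q l ih => rw [List.map_cons, List.sum_cons, ← ih]; rfl

noncomputable def tau (ws lin : List ℕ) : ℕ := pack 1 19 fun j => force (nthL 0 ws j) fun w => bit (sumL (dg w) lin) 1

noncomputable def leaf (chk : ℕ → Bool) (wt E s : ℕ) : Bool :=
  force (Nat.shiftRight s 19) fun R =>
    bif' (Nat.beq wt 16) (chk (Int.natAbs (Int.subNatNat E (Nat.mul 2 R)))) (Nat.beq (Nat.lor E R) 0)

def QS : List ℕ := [55,54,53,52,51,50,49,48,47,46,45,44,43,42,41,40,39,38,37,36,35,34,33,32,31,30,29,28,27,26,25,24,23,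
  22,21,20,19,18,17,16,15,14,13,12,11,10,9,8,7,6,5,4,3,2,1,0]

noncomputable def heavy (V : ℕ → ℕ) (ws : List ℕ) (chk : ℕ → Bool) (E : ℕ) : Bool :=
  force (Nat.mod E 8191) fun wt => bor (Nat.blt 16 wt) <| bor (Nat.beq wt 0)
    (forceL (filterL (fun q => tb E (Nat.mul 13 q)) QS) fun lin => forceL (mapL V lin) fun vin =>
      forceL (mapL V (filterL (fun q => not (tb E (Nat.mul 13 q))) QS)) fun vout => force (tau ws lin)
        (sub (solve 524287 (leaf chk wt E) 57 vin) vout (Nat.div (Nat.sub 16 wt) 4)))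

noncomputable def VOk (V : ℕ → ℕ) (ws : List ℕ) : Bool :=
  allLt 56 fun q => band (Nat.beq (Nat.shiftRight (V q) 19) (p13 q))
    (allLt 19 fun j => Nat.beq (bit (V q) j) (Nat.mod (dg (nthL 0 ws j) q) 2))

theorem sq_ge (a : ℤ) :
    ((decide (a % 2 = 1)).toNat : ℤ) + 4 * ((!decide (a % 2 = 1)).toNat * (decide (a / 2 % 2 = 1)).toNat : ℕ) ≤ a * a := by
  by_cases h : a % 2 = 1
  · have : a ≤ -1 ∨ 1 ≤ a := by omega
    simp only [h, decide_true, Bool.toNat_true, Bool.not_true, Bool.toNat_false]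
    rcases this with h | h <;> push_cast <;> nlinarith
  · by_cases h' : a / 2 % 2 = 1
    · have : a ≤ -2 ∨ 2 ≤ a := by omega
      simp only [h, h', decide_true, decide_false, Bool.toNat_true, Bool.not_false, Bool.toNat_false]
      rcases this with h | h <;> push_cast <;> nlinarith
    · simpa [h, h'] using mul_self_nonneg a

theorem heavy_spec {V : ℕ → ℕ} {ws : List ℕ} {chk : ℕ → Bool} (hV : VOk V ws = true)
    (H0 : ∀ m a, Sel ((dn 56).map V) m a → m ≤ 4 → a &&& 524287 = 0 → a = 0) {x : RuVec}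
    (h1 : ∀ j < 19, 4 ∣ dot x (vec (nthL 0 ws j))) (h2 : ruNorm x ≤ 16) (h : heavy V ws chk (EE x) = true) :
    (∀ q < 56, 4 ∣ rc x q) ∨ (ruNorm x = 16 ∧ chk (pv x).natAbs = true ∧ ∀ q < 56, |rc x q| < 4096) := by
  obtain ⟨e1, -, e3⟩ := xs_pow (eb x) 56
  obtain ⟨r1, -, r3⟩ := xs_pow (rb x) 56
  simp only [VOk, allLt_iff, band_eq, Bool.and_eq_true, nbeq] at hV
  have hf : (dn 56).filter (fun q => (EE x).testBit (13 * q)) = (dn 56).filter (eb x) :=
    List.filter_congr fun q hq => e3 q (mem_dn hq)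
  have hf' : (dn 56).filter (fun q => !(EE x).testBit (13 * q)) = (dn 56).filter fun q => !eb x q :=
    List.filter_congr fun q hq => congrArg _ (e3 q (mem_dn hq))
  have hw : ∑ q ∈ range 56, (eb x q).toNat ≤ 56 :=
    (sum_le_card_nsmul _ _ 1 fun q _ => Bool.toNat_le _).trans (by simp)
  have hwt : EE x % 8191 = ∑ q ∈ range 56, (eb x q).toNat := by
    rw [EE, e1, ← Nat.mod_eq_of_lt (hw.trans_lt (by decide : 56 < 8191)), sum_nat_mod,
      sum_nat_mod _ _ fun q => (eb x q).toNat]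
    exact congrArg (· % 8191) (sum_congr rfl fun q _ => by simp [Nat.mul_mod, Nat.pow_mod])
  have hn : ((∑ q ∈ range 56, (eb x q).toNat : ℕ) : ℤ) +
      4 * (∑ q ∈ range 56, (!eb x q).toNat * (rb x q).toNat : ℕ) ≤ ruNorm x := by
    rw [norm_eq, dot, Nat.cast_sum, Nat.cast_sum, mul_sum, ← sum_add_distrib]
    exact sum_le_sum fun q _ => sq_ge _
  have hc : ((dn 56).filter fun q => !eb x q).countP (rb x) = ∑ q ∈ range 56, (!eb x q).toNat * (rb x q).toNat := by
    rw [countP_sum, sum_filter', sum_dn]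
  simp only [heavy, force_eq, forceL_eq, filterL_eq, mapL_eq, bor_eq, tb_eq, Bool.or_eq_true, nblt, nbeq, Nat.mul_eq,
    show QS = dn 56 from rfl, hf, hf', show Nat.mod (EE x) 8191 = _ from hwt, Nat.sub_eq] at h
  generalize hW : ∑ q ∈ range 56, (eb x q).toNat = wt at *
  have hτ : ∀ i, (tau ws ((dn 56).filter (eb x))).testBit i =
      (decide (i < 19) && (∑ q ∈ range 56, (eb x q).toNat * dg (nthL 0 ws i) q).testBit 1) := fun i => by
    have hb : ∀ j < 19, force (nthL 0 ws j) (fun w => bit (sumL (dg w) ((dn 56).filter (eb x))) 1) < 2 ^ 1 :=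
      fun j _ => by rw [force_eq, bit_eq]; exact Bool.toNat_lt _
    have := testBit_get (w := 1) (m := 1) rfl (tau ws ((dn 56).filter (eb x))) i 0
    simp only [Nat.lt_one_iff, decide_true, Bool.true_and, one_mul, add_zero] at this
    rw [← this, tau]
    by_cases hi : i < 19
    · rw [get_pack rfl hb hi, force_eq, bit_eq, sumL_eq, sum_filter', sum_dn]
      cases Nat.testBit _ 1 <;> simp [hi]
    · rw [get_pack_of_le rfl hb (not_lt.1 hi)]; simp [hi]
  have hs : (tau ws ((dn 56).filter (eb x)) ^^^ xs V (rb x) (dn 56)) &&& 524287 = 0 := Nat.eq_of_testBit_eq fun i => by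
    rw [Nat.testBit_and, show 524287 = 2 ^ 19 - 1 from rfl, Nat.testBit_two_pow_sub_one, Nat.zero_testBit]
    by_cases hi : i < 19
    swap
    · simp [hi]
    have h6 := xs_bit (f := V) (d := dg (nthL 0 ws i)) (rb x) (i := i) (l := dn 56)
      fun q hq => (bit_eq _ _).symm.trans ((hV q (mem_dn hq)).2 i hi)
    rw [sum_dn] at h6
    have h7 : (4 : ℤ) ∣ ((∑ q ∈ range 56, (eb x q).toNat * dg (nthL 0 ws i) q : ℕ) : ℤ) +
        2 * (∑ q ∈ range 56, (rb x q).toNat * dg (nthL 0 ws i) q : ℕ) - dot x (vec (nthL 0 ws i)) := by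
      rw [dot, Nat.cast_sum, Nat.cast_sum, mul_sum, ← sum_add_distrib, ← sum_sub_distrib]
      refine dvd_sum fun q hq => ?_
      have : (4 : ℤ) ∣ ((eb x q).toNat : ℤ) + 2 * (rb x q).toNat - rc x q := by
        simp only [eb, rb, Bool.toNat, Bool.cond_decide]; split_ifs <;> push_cast <;> omega
      obtain ⟨m, hm⟩ := this
      rw [rc_vec _ (mem_range.1 hq)]
      exact ⟨m * dg (nthL 0 ws i) q + 2 * rc x q, by push_cast; linear_combination (dg (nthL 0 ws i) q : ℤ) * hm⟩
    have h8 := h1 i hi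
    rw [Nat.testBit_xor, hτ, Nat.testBit_succ, Nat.testBit_zero]
    revert h6
    cases (xs V (rb x) (dn 56)).testBit i <;> simp [hi] <;> omega
  have hR : (tau ws ((dn 56).filter (eb x)) ^^^ xs V (rb x) (dn 56)) >>> 19 = xs p13 (rb x) (dn 56) := by
    rw [Nat.shiftRight_xor_distrib, xs_shift, xs_congr (f := fun q => V q >>> 19) (f' := p13) (r' := rb x) fun q hq => ⟨(hV q (mem_dn hq)).1, rfl⟩,
      Nat.eq_of_testBit_eq (x := _ >>> 19) (y := 0) fun i => by simp [hτ], Nat.zero_xor]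
  by_cases h0 : wt = 0
  · have h3 : ∀ q ∈ range 56, eb x q = false := fun q hq => by
      simpa using sum_eq_zero_iff.1 (hW.trans h0) q hq
    have h4 : tau ws ((dn 56).filter (eb x)) = 0 := Nat.eq_of_testBit_eq fun i => by
      rw [hτ, sum_eq_zero fun q hq => by rw [h3 q hq]; exact Nat.zero_mul _]; simp
    rw [h4, Nat.zero_xor] at hs hR
    rw [sum_congr rfl fun q hq => by rw [h3 q hq, Bool.not_false, Bool.toNat_true, one_mul]] at hn
    rw [H0 _ _ (xs_sel V (rb x) _) (by rw [countP_sum, sum_dn]; omega) hs, Nat.zero_shiftRight] at hR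
    refine .inl fun q hq => ?_
    have h7 := h3 q (mem_range.2 hq)
    have h8 := r3 q hq
    rw [← hR] at h8
    simp only [Nat.zero_testBit, eb, rb, Bool.false_eq, decide_eq_false_iff_not] at h7 h8
    omega
  have h3 := sub_spec (xs_sel V (rb x) _) _ _ (by rw [hc]; show _ ≤ (16 - wt) / 4; omega) 
    ((h.resolve_left (by omega)).resolve_left h0)
  have h4 := solve_spec 57 (xs_sel V (rb x) _) h3
  rw [Nat.xor_assoc, ← xs_filter] at h4
  have h5 := h4 hs
  simp only [leaf, force_eq, bif'_eq, nbeq, Nat.shiftRight_eq, hR] at h5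
  split_ifs at h5 with h16
  · have h6 : ∀ q ∈ range 56, ((eb x q).toNat : ℤ) = rc x q * rc x q := by
      have h7 : ∀ q ∈ range 56, ((eb x q).toNat : ℤ) ≤ rc x q * rc x q := fun q _ =>
        le_trans (le_add_of_nonneg_right (mul_nonneg (by norm_num) (Nat.cast_nonneg _))) (sq_ge (rc x q))
      refine (sum_eq_sum_iff_of_le h7).1 (le_antisymm (sum_le_sum h7) ?_)
      rw [norm_eq] at h2
      rw [← Nat.cast_sum, hW, h16]; exact h2
    have h7 : ∀ q ∈ range 56, rc x q = (eb x q).toNat - 2 * (rb x q).toNat ∧ |rc x q| < 4096 := fun q hq => by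
      have h8 := h6 q hq
      have h9 : rc x q * rc x q ≤ 1 := h8 ▸ by exact_mod_cast Bool.toNat_le _
      have h10 : -1 ≤ rc x q ∧ rc x q ≤ 1 := by constructor <;> nlinarith
      simp only [eb, rb]
      generalize rc x q = a at h10
      obtain ⟨h10, h11⟩ := h10
      interval_cases a <;> decide
    refine .inr ⟨by omega, ?_, fun q hq => (h7 q (mem_range.2 hq)).2⟩
    rw [← h5, Int.subNatNat_eq_coe, EE, e1, r1, pv, sum_congr rfl fun q hq => by rw [(h7 q hq).1]]
    simp only [Nat.mul_eq, sub_mul, sum_sub_distrib, mul_assoc, ← mul_sum]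
    push_cast; rfl
  · refine .inl fun q hq => ?_
    have h6 := Nat.or_eq_zero_iff.1 (nbeq.1 h5)
    have h7 := e3 q hq
    have h8 := r3 q hq
    rw [show xs p13 (eb x) (dn 56) = 0 from h6.1] at h7
    rw [h6.2] at h8
    simp only [Nat.zero_testBit, eb, rb, Bool.false_eq, decide_eq_false_iff_not] at h7 h8
    omega

theorem Sel.pop {vs : List ℕ} {k a : ℕ} (h : Sel vs k a) :
    ∃ v ∈ 0 :: vs, ∃ a', Sel vs (k - 1) a' ∧ a = a' ^^^ v := by
  induction h with
  | nil => exact ⟨0, by simp, 0, .nil, rfl⟩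
  | skip _ ih =>
    obtain ⟨v, hv, a', h, e⟩ := ih
    exact ⟨v, by simp only [List.mem_cons] at hv ⊢; tauto, a', .skip h, e⟩
  | take h => exact ⟨_, by simp, _, .skip h, Nat.xor_comm _ _⟩

noncomputable def d5 (V : ℕ → ℕ) (BS : ℕ) : Bool :=
  forceL (mapL V QS) fun vs => band (allL (0 :: vs) fun v => tb BS (Nat.land v 4095))
    (sub (fun s => bif' (tb BS (Nat.land s 4095))
      (allL (0 :: vs) fun v => bif' (Nat.beq (Nat.land s 524287) (Nat.land v 524287)) (Nat.beq s v) true) true) vs 3 0)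

theorem d5_spec {V : ℕ → ℕ} {BS : ℕ} (h : d5 V BS = true) (m a : ℕ) (hs : Sel ((dn 56).map V) m a) (hm : m ≤ 4)
    (ha : a &&& 524287 = 0) : a = 0 := by
  simp only [d5, forceL_eq, mapL_eq, band_eq, Bool.and_eq_true, show QS = dn 56 from rfl] at h
  obtain ⟨v, hv, a', h1, rfl⟩ := hs.pop
  have h2 := sub_spec h1 _ _ (by omega) h.2
  have h3 : a' &&& 524287 = v &&& 524287 := Nat.xor_eq_zero_iff.1 (Nat.and_xor_distrib_right ▸ ha)
  have h4 : Nat.land a' 4095 = Nat.land v 4095 := by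
    have := congrArg (· &&& 4095) h3
    simp only [Nat.and_assoc] at this
    exact this
  rw [Nat.zero_xor, h4, allL_iff.1 h.1 v hv, bif'_true] at h2
  have h5 := allL_iff.1 h2 v hv
  rw [bif'_eq, if_pos (nbeq.2 (show Nat.land a' _ = Nat.land v _ from h3))] at h5
  rw [nbeq.1 h5, Nat.xor_self]

theorem Sel.lift (n : ℕ) : ∀ {vs : List ℕ} {k a : ℕ}, Sel (vs.map (· >>> n)) k a → ∃ a', Sel vs k a' ∧ a' >>> n = a
  | [], _, _, h => by cases h; exact ⟨0, .nil, Nat.zero_shiftRight _⟩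
  | _ :: _, _, _, h => by
    cases h with
    | skip h => obtain ⟨_, h1, e⟩ := lift n h; exact ⟨_, .skip h1, e⟩
    | take h => obtain ⟨_, h1, e⟩ := lift n h; exact ⟨_, .take h1, by rw [Nat.shiftRight_xor_distrib, e]⟩

/-! ### the table test -/

noncomputable def c1Ok (C C' : List ℤ) : Bool :=
  band (band (Nat.beq (lenL C) 56) (Nat.beq (lenL C') 56)) (allLt 28 fun q =>
    decide (nthL 0 C q = 8192 ^ q ∧ nthL 0 C (28 + q) = 8192 ^ (28 + q) ∧ nthL 0 C' q = 8192 ^ (28 + q) ∧
      nthL 0 C' (28 + q) = -8192 ^ q))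

theorem c1_spec {C C' : List ℤ} (h : c1Ok C C' = true) (b : Bool) (c : ℕ) :
    linC (bif' b C' C) c = pv (un b.toNat • vec c) := by
  simp only [c1Ok, band_eq, Bool.and_eq_true, nbeq, lenL_eq, allLt_iff, decide_eq_true_eq, nthL_eq] at h
  obtain ⟨⟨h1, h2⟩, h⟩ := h
  cases b
  · rw [bif'_false, linC_eq, h1, show un false.toNat = 1 from rfl, one_smul, pv, show 56 = 28 + 28 from rfl,
      sum_range_add, sum_range_add]
    refine congrArg₂ _ (sum_congr rfl fun q hq => ?_) (sum_congr rfl fun q hq => ?_) <;> rw [mem_range] at hq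
    · rw [(h q hq).1, rc_vec _ (by omega)]
    · rw [(h q hq).2.1, rc_vec _ (by omega)]
  · rw [bif'_true, linC_eq, h2, show un true.toNat = gI from rfl, pv, show 56 = 28 + 28 from rfl,
      sum_range_add, sum_range_add, add_comm]
    refine congrArg₂ _ (sum_congr rfl fun q hq => ?_) (sum_congr rfl fun q hq => ?_) <;> rw [mem_range] at hq
    · rw [(h q hq).2.2.2, rc_I _ (by omega), if_pos hq, rc_vec _ (by omega)]; ring
    · rw [(h q hq).2.2.1, rc_I _ (by omega), if_neg (by omega), Nat.add_sub_cancel_left, rc_vec _ (by omega)]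

/-- `linC` with salted coefficients (for the hash tables of the kernel). -/
noncomputable def linS (C : List ℤ) (c : ℕ) : ℤ :=
  Int.ediv (Int.add (linC C c) (Int.ofNat 18446744073709551616)) (Int.ofNat 36893488147419103232)

noncomputable def saltOk (C C₀ : List ℤ) : Bool :=
  band (band (Nat.beq (lenL C) 56) (Nat.beq (lenL C₀) 56)) (allLt 56 fun q =>
    decide (|nthL 0 C q - 36893488147419103232 * nthL 0 C₀ q| ≤ 1125899906842624))

theorem linS_eq {C C₀ : List ℤ} (h : saltOk C C₀ = true) (c : ℕ) : linS C c = linC C₀ c := by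
  simp only [saltOk, band_eq, Bool.and_eq_true, nbeq, lenL_eq, allLt_iff, decide_eq_true_eq, nthL_eq] at h
  have h1 : |linC C c - 36893488147419103232 * linC C₀ c| ≤ 56 * (8 * 1125899906842624) := by
    rw [linC_eq, linC_eq, h.1.1, h.1.2, mul_sum, ← sum_sub_distrib]
    refine (abs_sum_le_sum_abs _ _).trans ((sum_le_card_nsmul _ _ (8 * 1125899906842624) fun q hq => ?_).trans (by simp))
    rw [mul_left_comm, ← mul_sub, abs_mul]
    exact mul_le_mul (by have := dg_lt c q; rw [abs_le]; omega) (h.2 q (mem_range.1 hq)) (abs_nonneg _) (by norm_num)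
  rw [abs_le] at h1
  show (linC C c + 18446744073709551616) / 36893488147419103232 = _
  omega

theorem c1_salt {C C' S S' : List ℤ} (h : c1Ok C C' = true) (hS : saltOk S C = true) (hS' : saltOk S' C' = true)
    (b : Bool) (c : ℕ) : linS (bif' b S' S) c = pv (un b.toNat • vec c) := by
  rw [← c1_spec h]; cases b; exacts [linS_eq hS c, linS_eq hS' c]

theorem rc_un_le (u c : ℕ) {q : ℕ} (h : q < 56) : |rc (un u • vec c) q| ≤ 8 := by
  have h1 := dg_lt c q
  have h2 := dg_lt c (28 + q)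
  have h3 := dg_lt c (q - 28)
  simp only [rc_un _ _ h, udg, force_eq, bif'_eq, Nat.sub_eq, Nat.add_eq, abs_le]
  split_ifs <;> omega

theorem eq_of_natAbs {x : RuVec} (hx : ∀ q < 56, |rc x q| < 4096) {n : ℤ} (hn : |n| ≤ 4) {u c : ℕ}
    (h : (pv x).natAbs = (n * pv (un u • vec c)).natAbs) : ∃ v : GaussianInt, v.norm = 1 ∧ x = n • v • vec c := by
  have hb : ∀ q < 56, |rc (n • un u • vec c) q| < 4096 := fun q hq => by
    rw [rc_zsmul, abs_mul]
    exact (mul_le_mul hn (rc_un_le u c hq) (abs_nonneg _) (by norm_num)).trans_lt (by norm_num)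
  rw [← pv_zsmul] at h
  rcases Int.natAbs_eq_natAbs_iff.1 h with h | h
  · exact ⟨_, un_norm u, pv_inj hx hb h⟩
  · refine ⟨-un u, by rw [Zsqrtd.norm_neg, un_norm], ?_⟩
    rw [neg_smul, smul_neg]
    exact pv_inj hx (fun q hq => by rw [rc_neg, abs_neg]; exact hb q hq) (h.trans (pv_neg _).symm)

noncomputable def chk (C C' : List ℤ) (tc look : ℕ → ℕ) (X : ℕ) : Bool :=
  force X fun X => force (look X) fun c => force (Nat.shiftRight c 1) fun j => band (Nat.blt j 4060)
    (force (tc j) fun t => Nat.beq X (Int.natAbs (linS (bif' (tb c 0) C' C) t)))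

theorem chk_spec {C C' : List ℤ} (hC : ∀ b c, linS (bif' b C' C) c = pv (un b.toNat • vec c)) {tc look : ℕ → ℕ} {x : RuVec}
    (hx : ∀ q < 56, |rc x q| < 4096) (h : chk C C' tc look (pv x).natAbs = true) :
    ∃ j < 4060, ∃ v : GaussianInt, v.norm = 1 ∧ x = v • vec (tc j) := by
  simp only [chk, force_eq, band_eq, Bool.and_eq_true, nblt, nbeq, hC] at h
  obtain ⟨v, hv, e⟩ := eq_of_natAbs hx (n := 1) (by norm_num) (h.2.trans (by rw [one_mul]))
  exact ⟨_, h.1, v, hv, by rwa [one_smul] at e⟩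

/-- vectors with all coordinates divisible by four. -/
theorem frame_spec {κ : ℕ → Bool} (hκ : allLt 56 (fun q => κ (Nat.mul 4 (Nat.pow 8192 q))) = true) {x : RuVec}
    (h4 : ∀ q < 56, 4 ∣ rc x q) (h2 : ruNorm x ≤ 16) (h0 : x ≠ 0) :
    ruNorm x = 16 ∧ κ (pv x).natAbs = true ∧ ∀ q < 56, |rc x q| < 4096 := by
  obtain ⟨q, hq, hx⟩ : ∃ q < 56, rc x q ≠ 0 := by
    by_contra! h
    exact h0 (rc_ext fun q hq => by rw [h q hq, rc_zero])
  have h1 := add_sum_erase (range 56) (fun q => rc x q * rc x q) (mem_range.2 hq)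
  rw [← dot, ← norm_eq] at h1
  have h3 : ∀ q' ∈ (range 56).erase q, 0 ≤ rc x q' * rc x q' := fun _ _ => mul_self_nonneg _
  have h5 := sum_nonneg h3
  have h6 : rc x q ≤ -4 ∨ 4 ≤ rc x q := by have := h4 q hq; omega
  have h7 : 16 ≤ rc x q * rc x q := by rcases h6 with h | h <;> nlinarith
  have h8 : ∀ q' < 56, q' ≠ q → rc x q' = 0 := fun q' hq' e =>
    mul_self_eq_zero.1 ((sum_eq_zero_iff_of_nonneg h3).1 (by omega) q' (mem_erase.2 ⟨e, mem_range.2 hq'⟩))
  have h9 : (rc x q).natAbs = 4 := by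
    have : rc x q = 4 ∨ rc x q = -4 := mul_self_eq_mul_self_iff.1 (by omega)
    omega
  refine ⟨by omega, ?_, fun q' hq' => ?_⟩
  · rw [pv, sum_eq_single q (fun q' hq' e => by rw [h8 q' (mem_range.1 hq') e, zero_mul])
      fun h => absurd (mem_range.2 hq) h, Int.natAbs_mul, h9, Int.natAbs_pow]
    exact allLt_iff.1 hκ q hq
  · by_cases e : q' = q
    · rw [e, abs_lt]; omega
    · rw [h8 q' hq' e]; norm_num

end Cfsg.Agent.RuL
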