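import Cfsg.Agent.RuL.Tab

/-! The Rudvalis lattice (helper26): enumeration of the parity code, part 2. -/

set_option autoImplicit false
set_option maxRecDepth 100000
set_option exponentiation.threshold 100000
set_option Elab.async false

namespace Cfsg.Agent.RuL

open Cfsg.Spor Cfsg.Agent.Comp Cfsg.Agent.Known

theorem en8 : asp (fun s => heavy VV wc ck (Nat.shiftRight s 65)) (ge.drop 4) (nthL 0 pres 8) = true := by
  decide +kernel

theorem en9 : asp (fun s => heavy VV wc ck (Nat.shiftRight s 65)) (ge.drop 4) (nthL 0 pres 9) = true := by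
  decide +kernel

theorem en10 : asp (fun s => heavy VV wc ck (Nat.shiftRight s 65)) (ge.drop 4) (nthL 0 pres 10) = true := by
  decide +kernel

theorem en11 : asp (fun s => heavy VV wc ck (Nat.shiftRight s 65)) (ge.drop 4) (nthL 0 pres 11) = true := by
  decide +kernel

end Cfsg.Agent.RuL
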