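import Cfsg.Agent.RuL.Lat
import Cfsg.Agent.RuL.En0
import Cfsg.Agent.RuL.En1
import Cfsg.Agent.RuL.En2
import Cfsg.Agent.RuL.En3

/-! The Rudvalis lattice (helper26): `cls`, the nonzero vectors of norm at most 16 are the unit multiples of the 4060
table vectors `tv`. -/

set_option autoImplicit false
set_option maxRecDepth 100000
set_option exponentiation.threshold 100000

namespace Cfsg.Agent.RuL

open Cfsg.Spor Cfsg.Agent.Comp

noncomputable def tv (j : ℕ) : RuVec := vec (tc j)

theorem hS : ∀ b c, linS (bif' b Si S1) c = pv (un b.toNat • vec c) :=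
  c1_salt (C := C1) (C' := Ci) (by decide +kernel) (by decide +kernel) (by decide +kernel)

theorem en : ∀ i < 16, asp (fun s => heavy VV wc ck (Nat.shiftRight s 65)) (ge.drop 4) (nthL 0 pres i) = true := by
  intro i hi
  interval_cases i
  exacts [en0, en1, en2, en3, en4, en5, en6, en7, en8, en9, en10, en11, en12, en13, en14, en15]

theorem heavy_EE {x : RuVec} (hx : x ∈ ruLattice) : heavy VV wc ck (EE x) = true := by
  obtain ⟨_, h⟩ := sel_EE x hx
  obtain ⟨a, h, e⟩ := h.lift
  rw [← List.take_append_drop 4 ge] at h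
  obtain ⟨_, a₁, _, a₂, h1, h2, rfl⟩ := h.append
  obtain ⟨i, hi, h3⟩ := anyLt_iff.1 (asp_spec (κ := fun s => anyLt 16 fun i => Nat.beq (nthL 0 pres i) s) h1 0
    (by decide +kernel))
  have h4 := asp_spec h2 _ (en i hi)
  rw [nbeq.1 h3, Nat.zero_xor] at h4
  exact e ▸ h4

theorem cls {x : RuVec} (hx : x ∈ ruLattice) (h : ruNorm x ≤ 16) (h0 : x ≠ 0) :
    ruNorm x = 16 ∧ ∃ j < 4060, ∃ v : GaussianInt, v.norm = 1 ∧ x = v • tv j := by
  have hw : allLt 19 (fun j => memT CD (nthL 0 wc j)) = true := by decide +kernel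
  obtain ⟨h1, h2, h3⟩ := (heavy_spec (by decide +kernel) (d5_spec (BS := BS) (by decide +kernel))
    (fun j hj => dvd4 x hx _ (mem_L (allLt_iff.1 hw j hj))) h (heavy_EE hx)).elim
      (fun h4 => frame_spec (κ := ck) (by decide +kernel) h4 h h0) id
  exact ⟨h1, chk_spec hS h3 h2⟩

end Cfsg.Agent.RuL
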