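import Cfsg.Agent.RuL.PassDef

/-! The Rudvalis lattice (helper26): generator 0 permutes the lines. -/

set_option autoImplicit false
set_option maxRecDepth 100000
set_option exponentiation.threshold 100000
set_option Elab.async false

namespace Cfsg.Agent.RuL

open Cfsg.Spor Cfsg.Agent.Comp Cfsg.Agent.Known

theorem gt0_0 : ∀ x < 812, genT SF0 bt0 0 x = true :=
  forall_lt_add (a := 0) (b := 812) (fun _ h => absurd h (Nat.not_lt_zero _)) (by decide +kernel)

theorem gt0_1 : ∀ x < 1624, genT SF0 bt0 0 x = true :=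
  forall_lt_add (a := 812) (b := 812) gt0_0 (by decide +kernel)

theorem gt0_2 : ∀ x < 2436, genT SF0 bt0 0 x = true :=
  forall_lt_add (a := 1624) (b := 812) gt0_1 (by decide +kernel)

theorem gt0_3 : ∀ x < 3248, genT SF0 bt0 0 x = true :=
  forall_lt_add (a := 2436) (b := 812) gt0_2 (by decide +kernel)

theorem gt0_4 : ∀ x < 4060, genT SF0 bt0 0 x = true :=
  forall_lt_add (a := 3248) (b := 812) gt0_3 (by decide +kernel)

end Cfsg.Agent.RuL
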