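import Cfsg.Agent.RuL.PassDef

/-! The Rudvalis lattice (helper26): inner products determine the basic orbits. -/

set_option autoImplicit false
set_option maxRecDepth 100000
set_option exponentiation.threshold 100000
set_option Elab.async false

namespace Cfsg.Agent.RuL

open Cfsg.Spor Cfsg.Agent.Comp Cfsg.Agent.Known

theorem ip0 : ∀ x < 812, ipT x = true :=
  forall_lt_add (a := 0) (b := 812) (fun _ h => absurd h (Nat.not_lt_zero _)) (by decide +kernel)

theorem ip1 : ∀ x < 1624, ipT x = true :=
  forall_lt_add (a := 812) (b := 812) ip0 (by decide +kernel)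

theorem ip2 : ∀ x < 2436, ipT x = true :=
  forall_lt_add (a := 1624) (b := 812) ip1 (by decide +kernel)

theorem ip3 : ∀ x < 3248, ipT x = true :=
  forall_lt_add (a := 2436) (b := 812) ip2 (by decide +kernel)

theorem ip4 : ∀ x < 4060, ipT x = true :=
  forall_lt_add (a := 3248) (b := 812) ip3 (by decide +kernel)

theorem lvs : allLt 34 lvT = true := by decide +kernel

end Cfsg.Agent.RuL
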