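import Cfsg.Agent.RuL.Tab

/-! The Rudvalis lattice (helper26): the table vectors pass the membership test. -/

set_option autoImplicit false
set_option maxRecDepth 100000
set_option exponentiation.threshold 100000
set_option Elab.async false

namespace Cfsg.Agent.RuL

open Cfsg.Spor Cfsg.Agent.Comp Cfsg.Agent.Known

theorem tm0 : ∀ x < 1015, force (tc x) (memT CD) = true :=
  forall_lt_add (a := 0) (b := 1015) (fun _ h => absurd h (Nat.not_lt_zero _)) (by decide +kernel)

theorem tm1 : ∀ x < 2030, force (tc x) (memT CD) = true :=
  forall_lt_add (a := 1015) (b := 1015) tm0 (by decide +kernel)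

theorem tm2 : ∀ x < 3045, force (tc x) (memT CD) = true :=
  forall_lt_add (a := 2030) (b := 1015) tm1 (by decide +kernel)

theorem tm3 : ∀ x < 4060, force (tc x) (memT CD) = true :=
  forall_lt_add (a := 3045) (b := 1015) tm2 (by decide +kernel)

end Cfsg.Agent.RuL
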