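import Cfsg.Agent.RuL.G
import Cfsg.Agent.RuL.Cls
import Cfsg.Agent.RuL.PM
import Cfsg.Agent.RuL.PG0
import Cfsg.Agent.RuL.PG1
import Cfsg.Agent.RuL.PI

/-! The Rudvalis group of the definitions (helper26): `RuL.equiv : Nonempty (Spor.Ru ≃* Spor.MdRu.G)` and
`RuL.card_center`. -/

set_option autoImplicit false
set_option maxRecDepth 100000
set_option exponentiation.threshold 100000

namespace Cfsg.Agent.RuL

open Cfsg.Spor Cfsg.Agent.Comp Cfsg.Agent.Known Finset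
open Cfsg.Agent.Spor.MdRu (G φ)

theorem tv_mem {x : ℕ} (h : x < 4060) : tv x ∈ ruLattice := mem_L ((force_eq _ _).symm.trans (tm3 x h))

def Rel (f : fourRu) (g : G) : Prop :=
  ∀ x < 4060, ∃ u : GaussianInt, u.norm = 1 ∧ ap f (tv x) = u • tv (φ g x)

theorem unit_mul {u v : GaussianInt} (hu : u.norm = 1) (hv : v.norm = 1) : (u * v).norm = 1 := by
  rw [Zsqrtd.norm_mul, hu, hv, mul_one]

theorem unit_star {u : GaussianInt} (hu : u.norm = 1) : (star u).norm = 1 := (Zsqrtd.norm_conj u).trans hu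

theorem Rel.mul {f f' : fourRu} {g g' : G} (h : Rel f g) (h' : Rel f' g') : Rel (f * f') (g * g') := fun x hx => by
  obtain ⟨u, hu, e⟩ := h' x hx
  obtain ⟨v, hv, e'⟩ := h _ (mdl2.lt g' hx)
  exact ⟨_, unit_mul hu hv, by
    rw [ap_mul _ _ (tv_mem hx), e, ap_smul _ _ (tv_mem (mdl2.lt g' hx)), e', smul_smul, map_mul, Equiv.Perm.mul_apply]⟩

theorem rel_one {f : fourRu} {c : GaussianInt} (hc : c.norm = 1) (h : ∀ x ∈ ruLattice, ap f x = c • x) : Rel f 1 :=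
  fun x hx => ⟨c, hc, by rw [h _ (tv_mem hx), map_one, Equiv.Perm.one_apply]⟩

theorem Rel.inv {f : fourRu} {g : G} (h : Rel f g) : Rel f⁻¹ g⁻¹ := fun x hx => by
  have h1 := mdl2.lt g⁻¹ hx
  obtain ⟨u, hu, e⟩ := h _ h1
  rw [← Equiv.Perm.mul_apply, ← map_mul, mul_inv_cancel, map_one, Equiv.Perm.one_apply] at e
  have h2 := congrArg (fun v => star u • ap f⁻¹ v) e
  simp only [← ap_mul _ _ (tv_mem h1), inv_mul_cancel, ap_one (tv_mem h1), ap_smul _ _ (tv_mem hx), smul_smul,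
    star_mul_unit hu, one_smul] at h2
  exact ⟨_, unit_star hu, h2.symm⟩

theorem rel_gen {uc : List ℕ} {C S : List ℤ} {bt j : ℕ} (h : genOk uc C S = true)
    (hg : ∀ x < 4060, genT S bt j x = true) : ∃ f, Rel f (W RuT.y (nthL [] us j)) := by
  obtain ⟨h1, h2⟩ := gen_spec h
  set g := W RuT.y (nthL [] us j)
  have key : ∀ x < 4060, ∃ v : GaussianInt, v.norm = 1 ∧ FF uc (tv x) = (4 : ℤ) • v • tv (φ g x) := fun x hx => by
    have h3 := hg x hx
    simp only [genT, force_eq, nbeq, hS, (h2 _).1] at h3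
    rw [show φ g x = act2 j x from mdl2.apply j hx]
    exact eq_of_natAbs (h2 _).2 (by norm_num) h3
  have hb : ∀ i < 56, ∃ x < 4060, ∃ v : GaussianInt, v.norm = 1 ∧ vec (nthL 0 bc i) = v • tv x := fun i hi =>
    (cls (bc_spec hi).1 (bc_spec hi).2.2.1.le fun e => by simpa [e, ruNorm] using (bc_spec hi).2.2.1).2
  have hn : ∀ x, FF uc (-x) = -FF uc x := fun x => by rw [← neg_one_smul GaussianInt, FF_smul, neg_one_smul]
  have h0 : FF uc 0 = (4 : ℤ) • (0 : RuVec) := by rw [← zero_smul GaussianInt (0 : RuVec), FF_smul]; simp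
  obtain ⟨f, hf⟩ := exists_four (FF uc) (n := 4) (by norm_num) (FF_add uc) (FF_smul uc gI) h1
    (L_ind (fun i hi => by
      obtain ⟨x, hx, v, -, e⟩ := hb i hi
      obtain ⟨w, -, e'⟩ := key x hx
      exact ⟨_, smul_mem v (smul_mem w (tv_mem (mdl2.lt g hx))), by rw [e, FF_smul, e', smul_comm]⟩)
      ⟨0, zero_mem _, h0⟩
      (fun _ _ _ _ ⟨a, ha, e⟩ ⟨b, hb, e'⟩ => ⟨_, add_mem ha hb, by rw [FF_add, e, e', smul_add]⟩)
      fun _ _ ⟨a, ha, e⟩ => ⟨_, neg_mem ha, by rw [hn, e, smul_neg]⟩)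
    (L_ind (fun i hi => by
      obtain ⟨x, hx, v, -, e⟩ := hb i hi
      obtain ⟨w, hw, e'⟩ := key _ (mdl2.lt g⁻¹ hx)
      rw [← Equiv.Perm.mul_apply, ← map_mul, mul_inv_cancel, map_one, Equiv.Perm.one_apply] at e'
      exact ⟨_, smul_mem (v * star w) (tv_mem (mdl2.lt g⁻¹ hx)), by
        rw [e, FF_smul, e', smul_comm, smul_smul, mul_assoc, star_mul_unit hw, mul_one]⟩)
      ⟨0, zero_mem _, h0⟩
      (fun _ _ _ _ ⟨a, ha, e⟩ ⟨b, hb, e'⟩ => ⟨_, add_mem ha hb, by rw [FF_add, e, e', smul_add]⟩)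
      fun _ _ ⟨a, ha, e⟩ => ⟨_, neg_mem ha, by rw [hn, e, smul_neg]⟩)
  refine ⟨f, fun x hx => (key x hx).imp fun v h => ⟨h.1, ?_⟩⟩
  exact smul_right_injective _ (by norm_num : (4 : ℤ) ≠ 0) ((hf _ (tv_mem hx)).symm.trans h.2)

theorem rel_id : Rel 1 1 := rel_one (c := 1) rfl fun _ h => by rw [ap_one h, one_smul]

theorem ex_left (g : G) : ∃ f, Rel f g := by
  let K : Subgroup G := ⟨⟨⟨{g | ∃ f, Rel f g}, fun ⟨_, h⟩ ⟨_, h'⟩ => ⟨_, h.mul h'⟩⟩, ⟨_, rel_id⟩⟩, fun ⟨_, h⟩ => ⟨_, h.inv⟩⟩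
  refine (mdl2.top ▸ Spor.genL_le (H := K) fun j hj => ?_ : ⊤ ≤ K) (Subgroup.mem_top g)
  rw [List.mem_range] at hj
  interval_cases j
  exacts [rel_gen (uc := uc0) (C := CF0) (by decide +kernel) gt0_4, rel_gen (uc := uc1) (C := CF1) (by decide +kernel) gt1_4]

/-! ### the stabiliser chain -/

noncomputable def bp (k : ℕ) : ℕ := (lv k).2.2.b

theorem lv_ok {k : ℕ} (hk : k < 34) : LvOk RuT.act 4060 (bs k) (lv k).2.2 := by
  have h := allLt_iff.1 lvs k hk
  rw [lvT, band_eq, Bool.and_eq_true, allLt_iff] at h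
  exact h

theorem bp_lt {k : ℕ} (hk : k < 34) : bp k < 4060 := (Mdl.lv_lt (lv_ok hk)).1

theorem mem_bs {b : ℕ} : ∀ k, b ∈ bs k ↔ ∃ j < k, bp j = b
  | 0 => by simp [bs]
  | k + 1 => by
    rw [show bs (k + 1) = bp k :: bs k from rfl, List.mem_cons, mem_bs k, Nat.exists_lt_succ_right, or_comm, eq_comm]

theorem hL : allLt 34 (fun k => band (band (Nat.beq (lv k).1 (Nat.pow 8192 (Nat.mul 2 k)))
    (allLt 4 fun m => force (nthL 0 (nthL [] ucs k) m) fun c =>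
      band (isU m (tc (bp k)) c) (memL (Nat.mod (NN c) (lv k).1) (lv k).2.1)))
    (band (bor (Nat.beq k 33) (band (isU 0 (tc (bp k)) (nthL 0 rows (Nat.mul 2 k)))
      (isU 1 (tc (bp k)) (nthL 0 rows (Nat.succ (Nat.mul 2 k))))))
    (band (decide (dot (tv (bp k)) (tv (bp k)) = 16)) (bor (Nat.beq k 0) (band (Nat.blt (nthL 0 prs k) k)
      (decide (her (tv (bp k)) (tv (bp (nthL 0 prs k))) ≠ 0))))))) = true := by decide +kernel

theorem hL' {k : ℕ} (hk : k < 34) : ((lv k).1 = 8192 ^ (2 * k) ∧ ∀ m < 4, ∃ c, vec c = un m • tv (bp k) ∧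
    NN c % (lv k).1 ∈ (lv k).2.1) ∧ (k = 33 ∨ vec (rows.getD (2 * k) 0) = tv (bp k) ∧
      vec (rows.getD (2 * k + 1) 0) = gI • tv (bp k)) ∧ ruNorm (tv (bp k)) = 16 ∧
      (k = 0 ∨ ∃ i < k, her (tv (bp k)) (tv (bp i)) ≠ 0) := by
  have h := allLt_iff.1 hL k hk
  simp only [band_eq, bor_eq, Bool.and_eq_true, Bool.or_eq_true, nbeq, nblt, allLt_iff, force_eq, memL_iff,
    decide_eq_true_eq, nthL_eq 0 rows] at h
  exact ⟨⟨h.1.1, fun m hm => ⟨_, isU_spec (h.1.2 m hm).1, (h.1.2 m hm).2⟩⟩,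
    h.2.1.imp id fun h => ⟨(isU_spec h.1).trans (one_smul _ _), isU_spec h.2⟩, norm_eq _ ▸ h.2.2.1,
    h.2.2.2.imp id fun h => ⟨_, h⟩⟩

theorem NN_mod {k : ℕ} (hk : k < 34) {c c' : ℕ} (h : ∀ j < k, her (vec c) (tv (bp j)) = her (vec c') (tv (bp j))) :
    NN c % 8192 ^ (2 * k) = NN c' % 8192 ^ (2 * k) := by
  have h1 : ∀ c, ((NN c % 8192 ^ (2 * k) : ℕ) : ℤ) = linC CV c % 8192 ^ (2 * k) := fun c => by
    rw [NN, linS_eq (C₀ := CV) (by decide +kernel), Int.natCast_mod]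
    erw [Int.toNat_of_nonneg (Int.emod_nonneg _ (by decide +kernel))]
    rw [Nat.cast_pow]
    exact Int.emod_emod_of_dvd _ (pow_dvd_pow (8192 : ℤ) (by omega : 2 * k ≤ 66))
  have h2 : rowsOk rows CV = true := by decide +kernel
  refine Nat.cast_injective (R := ℤ) ?_
  rw [h1, h1, linC_rows h2, linC_rows h2]
  refine Int.emod_eq_emod_iff_emod_sub_eq_zero.2 (Int.emod_eq_zero_of_dvd ?_)
  rw [← sum_sub_distrib]
  refine dvd_sum fun i _ => ?_
  rw [← sub_mul]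
  by_cases hi : i < 2 * k
  · have h3 := (hL' (k := i / 2) (by omega)).2.1.resolve_left (by omega)
    have h4 := h (i / 2) (by omega)
    rcases Nat.mod_two_eq_zero_or_one i with e | e
    · rw [show i = 2 * (i / 2) by omega, h3.1, ← her_re, ← her_re, h4, sub_self, zero_mul]; exact dvd_zero _
    · rw [show i = 2 * (i / 2) + 1 by omega, h3.2, ← her_im, ← her_im, h4, sub_self, zero_mul]; exact dvd_zero _
  · exact (pow_dvd_pow _ (not_lt.1 hi)).mul_left _

theorem ips {k : ℕ} (hk : k < 34) {z : ℕ} (hz : z < 4060) {w : GaussianInt} (hw : w.norm = 1)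
    (h : ∀ j < k, her (tv z) (tv (bp j)) = her (w • tv (bp k)) (tv (bp j))) :
    ∃ g : G, (∀ j < k, φ g (bp j) = bp j) ∧ φ g (bp k) = z := by
  obtain ⟨m, hm, rfl⟩ := exists_un hw
  obtain ⟨h1, h2⟩ := (hL' hk).1
  obtain ⟨c, hc, h3⟩ := h2 m hm
  have h4 := ip4 z hz
  simp only [ipT, force_eq, allL_iff] at h4
  have h5 := h4 (lv k) (by rw [lv, nthL_eq, List.getD_eq_getElem _ _ hk]; exact List.getElem_mem _)
  rw [bif'_eq, if_pos (memL_iff.2 (by rwa [h1, ← NN_mod hk (hc ▸ h), ← h1] at h3)), band_eq, Bool.and_eq_true, nblt,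
    nbeq] at h5
  obtain ⟨-, -, g, hg, e⟩ := RuT.mdl.lv_orbit (fun b hb => by
    obtain ⟨j, hj, rfl⟩ := (mem_bs k).1 hb; exact bp_lt (hj.trans hk)) (lv_ok hk) _ h5.1
  exact ⟨g, fun j hj => hg _ ((mem_bs k).2 ⟨j, hj, rfl⟩), e.trans h5.2⟩

def Fx (f : fourRu) (k : ℕ) : Prop := ∀ j < k, ∃ e : GaussianInt, e.norm = 1 ∧ ap f (tv (bp j)) = e • tv (bp j)

theorem Fx.common {f : fourRu} : ∀ {k : ℕ}, k ≤ 34 → Fx f k →
    ∃ c : GaussianInt, c.norm = 1 ∧ ∀ j < k, ap f (tv (bp j)) = c • tv (bp j)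
  | 0, _, _ => ⟨1, rfl, fun _ h => absurd h (Nat.not_lt_zero _)⟩
  | k + 1, hk, h => by
    obtain ⟨c, hc, h1⟩ := common (Nat.le_of_succ_le hk) fun j hj => h j (Nat.lt_succ_of_lt hj)
    obtain ⟨e, he, h2⟩ := h k k.lt_succ_self
    refine ⟨e, he, fun j hj => (Nat.lt_succ_iff_lt_or_eq.1 hj).elim (fun hj => ?_) fun e => e ▸ h2⟩
    obtain ⟨i, hi, h3⟩ := (hL' hk).2.2.2.resolve_left (by omega)
    have h4 := ap_her f (tv_mem (bp_lt hk)) (tv_mem (bp_lt (hi.trans hk)))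
    rw [h2, h1 i hi, her_smul, mul_eq_right₀ h3] at h4
    rw [h1 j hj, ← one_mul c, ← h4, mul_assoc, star_mul_unit hc, mul_one]

theorem Fx.scalar {f : fourRu} (h : Fx f 34) : ∃ c : GaussianInt, c.norm = 1 ∧ ∀ x ∈ ruLattice, ap f x = c • x := by
  have hf : allLt 28 (fun q => band (Nat.blt (nthL 0 frs q) 34)
    (eqV (fun p => if p = px q then 4 else 0) (tc (bp (nthL 0 frs q))))) = true := by decide +kernel
  obtain ⟨c, hc, h1⟩ := h.common le_rfl
  refine ⟨c, hc, fun x hx => funext fun p => ?_⟩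
  have h2 := allLt_iff.1 hf _ (ix_lt p)
  rw [band_eq, Bool.and_eq_true, nblt, px_ix] at h2
  have h3 := ap_her f hx (tv_mem (bp_lt h2.1))
  have h4 : ∀ y, her y (tv (bp (nthL 0 frs (ix p)))) = y p * 4 := fun y => by
    rw [tv, ← eqV_spec h2.2, her, sum_eq_single p (fun q _ e => by simp [e]) (by simp)]; simp
  rw [h1 _ h2.1, ← one_smul GaussianInt (ap f x), her_smul, h4, h4, ← mul_assoc] at h3
  rw [Pi.smul_apply, smul_eq_mul, ← mul_right_cancel₀ (by decide) h3, one_mul, ← mul_assoc, mul_comm c,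
    star_mul_unit hc, one_mul]

theorem ex_right (f : fourRu) : ∃ g, Rel f g := by
  suffices h : ∀ n k, k + n = 34 → ∀ f, Fx f k → ∃ g, Rel f g from
    h 34 0 rfl f fun _ h => absurd h (Nat.not_lt_zero _)
  intro n
  induction n with
  | zero => rintro k rfl f h; obtain ⟨c, hc, h⟩ := h.scalar; exact ⟨1, rel_one hc h⟩
  | succ n ih =>
    intro k e f h
    have hk : k < 34 := by omega
    have hv := tv_mem (bp_lt hk)
    obtain ⟨c, hc, h1⟩ := h.common hk.le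
    have h2 := (ap_norm f hv).trans (hL' hk).2.2.1
    obtain ⟨-, z, hz, u, hu, h3⟩ := cls (ap_mem f hv) h2.le fun e => by simp [e, ruNorm] at h2
    obtain ⟨g, hg, h4⟩ := ips hk hz (unit_mul (unit_star hu) hc) fun j hj => by
      have h4 := ap_her f hv (tv_mem (bp_lt (hj.trans hk)))
      rw [h3, h1 j hj, her_smul] at h4
      rw [← one_smul GaussianInt (tv (bp j)), her_smul, ← h4, one_smul]
      linear_combination (-(her (tv z) (tv (bp j))) * (star c * c)) * star_mul_unit hu -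
        her (tv z) (tv (bp j)) * star_mul_unit hc - star u * c * u * star c * her (tv z) (tv (bp j)) * star_one GaussianInt
    obtain ⟨f', hf'⟩ := ex_left g
    obtain ⟨g', h5⟩ := ih (k + 1) (by omega) (f'⁻¹ * f) fun j hj => by
      have hj' := bp_lt (k := j) (by omega)
      rw [ap_mul _ _ (tv_mem hj')]
      rcases Nat.lt_succ_iff_lt_or_eq.1 hj with hj | rfl
      · obtain ⟨v, hv, h6⟩ := hf'.inv _ hj'
        rw [map_inv, Equiv.Perm.inv_eq_iff_eq.2 (hg j hj).symm] at h6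
        exact ⟨_, unit_mul hc hv, by rw [h1 j hj, ap_smul _ _ (tv_mem hj'), h6, smul_smul]⟩
      · obtain ⟨v, hv, h6⟩ := hf'.inv _ hz
        rw [map_inv, Equiv.Perm.inv_eq_iff_eq.2 h4.symm] at h6
        exact ⟨_, unit_mul hu hv, by rw [h3, ap_smul _ _ (tv_mem hz), h6, smul_smul]⟩
    exact ⟨_, mul_inv_cancel_left f' f ▸ hf'.mul h5⟩

theorem uniq {f : fourRu} {g g' : G} (h : Rel f g) (h' : Rel f g') : g = g' := by
  let K : Subgroup G := ⟨⟨⟨{g | Rel 1 g}, fun h h' => mul_one (1 : fourRu) ▸ h.mul h'⟩, rel_id⟩,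
    fun h => by simpa using Rel.inv h⟩
  have hK : K.Normal := ⟨fun a ha b => by
    obtain ⟨f, hf⟩ := ex_left b
    have := (hf.mul ha).mul hf.inv
    rwa [mul_one, mul_inv_cancel] at this⟩
  have h1 : g⁻¹ * g' ∈ K := show Rel 1 _ from inv_mul_cancel f ▸ h.inv.mul h'
  rcases Spor.MdRu.simple.eq_bot_or_eq_top_of_normal K hK with e | e
  · rw [e, Subgroup.mem_bot] at h1; exact inv_mul_eq_one.1 h1
  · obtain ⟨u, -, h2⟩ := (show RuT.y 0 ∈ K from e ▸ Subgroup.mem_top _) 3306 (by decide)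
    rw [ap_one (tv_mem (by decide)), RuT.mdl.apply 0 (by decide)] at h2
    have h3 := congrFun h2 (0, 0)
    rw [Pi.smul_apply, show tv (RuT.act 0 3306) (0, 0) = 0 by decide +kernel, smul_zero] at h3
    exact absurd h3 (by decide +kernel)

noncomputable def θ : fourRu →* G :=
  MonoidHom.mk' (fun f => (ex_right f).choose) fun f f' =>
    uniq (ex_right _).choose_spec ((ex_right f).choose_spec.mul (ex_right f').choose_spec)

theorem θ_eq {f : fourRu} {g : G} : θ f = g ↔ Rel f g :=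
  ⟨fun e => e ▸ (ex_right f).choose_spec, uniq (ex_right f).choose_spec⟩

theorem θ_surj : Function.Surjective θ := fun g => (ex_left g).imp fun _ => θ_eq.2

theorem mem_ker {f : fourRu} : f ∈ θ.ker ↔ ∃ c : GaussianInt, c.norm = 1 ∧ ∀ x ∈ ruLattice, ap f x = c • x :=
  ⟨fun h => Fx.scalar fun j hj => by simpa using θ_eq.1 h _ (bp_lt hj), fun ⟨_, hc, h⟩ => θ_eq.2 (rel_one hc h)⟩

theorem center_eq : Subgroup.center fourRu = θ.ker := by
  refine le_antisymm (fun f hf => ?_) fun f hf => Subgroup.mem_center_iff.2 fun f' => ap_ext fun v hv => ?_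
  · have h1 : θ f ∈ Subgroup.center G := Subgroup.mem_center_iff.2 fun g => by
      obtain ⟨f', rfl⟩ := θ_surj g
      rw [← map_mul, ← map_mul, Subgroup.mem_center_iff.1 hf f']
    rcases Spor.MdRu.simple.eq_bot_or_eq_top_of_normal (Subgroup.center G) inferInstance with e | e
    · rwa [e] at h1
    · have h2 := Subgroup.mem_center_iff.1 (show RuT.y 6 ∈ _ from e ▸ Subgroup.mem_top _) (RuT.y 0)
      have h3 := congrArg (fun g => φ g 0) h2
      simp only [map_mul, Equiv.Perm.mul_apply] at h3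
      rw [RuT.mdl.apply 0 (RuT.mdl.lt _ (by decide)), RuT.mdl.apply 6 (RuT.mdl.lt _ (by decide)),
        RuT.mdl.apply 0 (by decide), RuT.mdl.apply 6 (by decide)] at h3
      exact absurd h3 (by decide +kernel)
  · obtain ⟨c, -, h⟩ := mem_ker.1 hf
    rw [ap_mul _ _ hv, ap_mul _ _ hv, h v hv, h _ (ap_mem _ hv), ap_smul _ _ hv]

theorem equiv : Nonempty (Ru ≃* G) :=
  ⟨(QuotientGroup.quotientMulEquivOfEq center_eq).trans (QuotientGroup.quotientKerEquivOfSurjective θ θ_surj)⟩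

theorem card_center : Nat.card (Subgroup.center fourRu) = 4 := by
  choose s hs using fun m : Fin 4 => exists_scalar (un_norm m)
  rw [center_eq, ← Nat.card_eq_of_bijective (fun m => (⟨s m, mem_ker.2 ⟨_, un_norm m, hs m⟩⟩ : θ.ker)) ⟨?_, ?_⟩,
    Nat.card_fin]
  · intro m m' e
    have h1 := hs m _ (tv_mem (x := 3306) (by decide))
    rw [show s m = s m' from congrArg Subtype.val e, hs m' _ (tv_mem (by decide))] at h1
    have h2 := congrFun h1 (0, 0)
    rw [Pi.smul_apply, Pi.smul_apply, show tv 3306 (0, 0) = 4 by decide +kernel] at h2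
    clear h1 e; revert m m'; decide
  · rintro ⟨f, hf⟩
    obtain ⟨c, hc, h⟩ := mem_ker.1 hf
    obtain ⟨m, hm, rfl⟩ := exists_un hc
    exact ⟨⟨m, hm⟩, Subtype.ext (ap_ext fun v hv => (hs _ v hv).trans (h v hv).symm)⟩

end Cfsg.Agent.RuL
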