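import Cfsg.Agent.RuL.Lat

/-! The Rudvalis lattice (helper26): the action `ap` of `fourRu` on vectors, construction `exists_four` of elements,
the maps `FF` given by coded rows. -/

set_option autoImplicit false

namespace Cfsg.Agent.RuL

open Cfsg.Spor Cfsg.Agent.Comp Finset

open Classical in
noncomputable def ap (f : fourRu) (v : RuVec) : RuVec := if h : v ∈ ruLattice then (f.1 ⟨v, h⟩).1 else v

theorem ap_eq (f : fourRu) {v : RuVec} (h : v ∈ ruLattice) : ap f v = (f.1 ⟨v, h⟩).1 := dif_pos h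

theorem ap_mem (f : fourRu) {v : RuVec} (h : v ∈ ruLattice) : ap f v ∈ ruLattice := ap_eq f h ▸ (f.1 ⟨v, h⟩).2

theorem ap_mul (f g : fourRu) {v : RuVec} (h : v ∈ ruLattice) : ap (f * g) v = ap f (ap g v) := by
  rw [ap_eq _ h, ap_eq f (ap_mem g h)]
  exact congrArg (fun z => (f.1 z).1) (Subtype.ext (ap_eq g h).symm)

theorem ap_one {v : RuVec} (h : v ∈ ruLattice) : ap 1 v = v := ap_eq _ h

theorem ap_ext {f g : fourRu} (h : ∀ v ∈ ruLattice, ap f v = ap g v) : f = g :=
  Subtype.ext (Equiv.ext fun v => Subtype.ext ((ap_eq f v.2).symm.trans ((h _ v.2).trans (ap_eq g v.2))))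

theorem ap_add (f : fourRu) {x y : RuVec} (hx : x ∈ ruLattice) (hy : y ∈ ruLattice) : ap f (x + y) = ap f x + ap f y := by
  rw [ap_eq f hx, ap_eq f hy, ap_eq f (add_mem hx hy)]
  exact congrArg Subtype.val (f.2.1 ⟨x, hx⟩ ⟨y, hy⟩)

theorem ap_I (f : fourRu) {x : RuVec} (hx : x ∈ ruLattice) : ap f (gI • x) = gI • ap f x := by
  rw [ap_eq f hx, ap_eq f (gI_smul_mem_ruLattice hx)]
  exact congrArg Subtype.val (f.2.2.1 ⟨x, hx⟩)

theorem ap_norm (f : fourRu) {x : RuVec} (hx : x ∈ ruLattice) : ruNorm (ap f x) = ruNorm x := by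
  rw [ap_eq f hx]; exact f.2.2.2 ⟨x, hx⟩

theorem ap_zsmul (f : fourRu) (n : ℤ) {x : RuVec} (hx : x ∈ ruLattice) : ap f (n • x) = n • ap f x := by
  rw [ap_eq f hx, ap_eq f (zsmul_mem hx n)]
  exact congrArg Subtype.val (map_zsmul (AddMonoidHom.mk' f.1 f.2.1) n ⟨x, hx⟩)

theorem ap_smul (f : fourRu) (u : GaussianInt) {x : RuVec} (hx : x ∈ ruLattice) : ap f (u • x) = u • ap f x := by
  have h := gI_smul_mem_ruLattice hx
  rw [smul_eq, ap_add f (zsmul_mem hx _) (zsmul_mem h _), ap_zsmul f _ hx, ap_zsmul f _ h, ap_I f hx, ← smul_eq]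

theorem ap_dot (f : fourRu) {x y : RuVec} (hx : x ∈ ruLattice) (hy : y ∈ ruLattice) : dot (ap f x) (ap f y) = dot x y := by
  have h := ap_norm f (add_mem hx hy)
  rw [ap_add f hx hy, norm_add, norm_add, ap_norm f hx, ap_norm f hy] at h
  omega

theorem ap_her (f : fourRu) {x y : RuVec} (hx : x ∈ ruLattice) (hy : y ∈ ruLattice) : her (ap f x) (ap f y) = her x y :=
  Zsqrtd.ext (by rw [her_re, her_re, ap_dot f hx hy])
    (by rw [her_im, her_im, ← ap_I f hy, ap_dot f hx (gI_smul_mem_ruLattice hy)])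

theorem norm_zsmul (n : ℤ) (x : RuVec) : ruNorm (n • x) = n * n * ruNorm x := by
  rw [← Int.cast_smul_eq_zsmul GaussianInt, norm_smul, Zsqrtd.norm_intCast]

theorem exists_four (F : RuVec → RuVec) {n : ℤ} (hn : n ≠ 0) (ha : ∀ x y, F (x + y) = F x + F y)
    (hI : ∀ x, F (gI • x) = gI • F x) (hN : ∀ x, ruNorm (F x) = n * n * ruNorm x)
    (hm : ∀ x ∈ ruLattice, ∃ y ∈ ruLattice, F x = n • y) (hs : ∀ y ∈ ruLattice, ∃ x ∈ ruLattice, F x = n • y) :
    ∃ f : fourRu, ∀ x ∈ ruLattice, F x = n • ap f x := by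
  choose g hg hF using hm
  have hc : Function.Injective fun x : RuVec => n • x := smul_right_injective _ hn
  have hb : Function.Bijective fun x : ruLattice => (⟨g x x.2, hg x x.2⟩ : ruLattice) := by
    refine ⟨fun x y e => Subtype.ext ?_, fun y => ?_⟩
    · have h1 : F (x - y) + F y = F y := by
        rw [← ha, sub_add_cancel, hF x x.2, hF y y.2]; exact congrArg (fun z : ruLattice => n • z.1) e
      have h2 := hN (x - y)
      rw [add_eq_right.1 h1, show ruNorm 0 = 0 by simp [ruNorm]] at h2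
      exact sub_eq_zero.1 (eq_zero_of_norm ((mul_eq_zero.1 h2.symm).resolve_left (mul_ne_zero hn hn)))
    · obtain ⟨x, hx, e⟩ := hs y y.2
      exact ⟨⟨x, hx⟩, Subtype.ext (hc ((hF x hx).symm.trans e))⟩
  refine ⟨⟨Equiv.ofBijective _ hb, fun v w => Subtype.ext (hc ?_), fun v => Subtype.ext (hc ?_), fun v => ?_⟩,
    fun x hx => by rw [ap_eq _ hx]; exact hF x hx⟩
  · show n • g _ _ = n • (g _ v.2 + g _ w.2)
    rw [smul_add, ← hF, ← hF, ← hF]; exact ha _ _
  · show n • g _ _ = n • gI • g _ v.2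
    rw [smul_comm, ← hF, ← hF]; exact hI _
  · have h := hN v
    rw [hF v v.2, norm_zsmul] at h
    exact mul_left_cancel₀ (mul_ne_zero hn hn) h

theorem star_mul_unit {u : GaussianInt} (h : u.norm = 1) : star u * u = 1 := by
  rw [mul_comm, ← Zsqrtd.norm_eq_mul_conj, h]; rfl

theorem exists_scalar {u : GaussianInt} (h : u.norm = 1) : ∃ f : fourRu, ∀ x ∈ ruLattice, ap f x = u • x := by
  obtain ⟨f, hf⟩ := exists_four (fun x => u • x) one_ne_zero (smul_add u) (smul_comm u gI)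
    (fun x => by rw [norm_smul, h, mul_one]) (fun x hx => ⟨_, smul_mem u hx, (one_smul _ _).symm⟩)
    fun y hy => ⟨_, smul_mem (star u) hy, by rw [smul_smul, mul_comm, star_mul_unit h, one_smul, one_smul]⟩
  exact ⟨f, fun x hx => by rw [hf x hx, one_smul]⟩

def FF (uc : List ℕ) (x : RuVec) : RuVec := fun p => her x (vec (uc.getD (ix p) 0))

theorem FF_add (uc : List ℕ) (x y : RuVec) : FF uc (x + y) = FF uc x + FF uc y := funext fun p => by
  simp only [FF, her, Pi.add_apply, add_mul, sum_add_distrib]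

theorem FF_smul (uc : List ℕ) (u : GaussianInt) (x : RuVec) : FF uc (u • x) = u • FF uc x := funext fun p => by
  simp only [FF, her, Pi.smul_apply, smul_eq_mul, mul_sum, mul_assoc]

noncomputable def genOk (uc : List ℕ) (C S : List ℤ) : Bool :=
  band (band (band (rowsOk uc C) (saltOk S C)) (band (Nat.beq (lenL uc) 56) (orthOk (mapL (fun c => (c, c)) uc) 16)))
    (allLt 28 fun q => isU 1 (nthL 0 uc q) (nthL 0 uc (Nat.add 28 q)))

theorem sum_getD (g : ℕ → ℤ) (l : List ℕ) : (l.map g).sum = ∑ q ∈ range l.length, g (l.getD q 0) := by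
  induction l with
  | nil => rfl
  | cons a l ih => rw [List.map_cons, List.sum_cons, ih, List.length_cons, sum_range_succ', add_comm]; rfl

theorem gen_spec {uc : List ℕ} {C S : List ℤ} (h : genOk uc C S = true) :
    (∀ x, ruNorm (FF uc x) = 4 * 4 * ruNorm x) ∧
      ∀ c, linS S c = pv (FF uc (vec c)) ∧ ∀ q < 56, |rc (FF uc (vec c)) q| < 4096 := by
  simp only [genOk, band_eq, Bool.and_eq_true, nbeq, lenL_eq, mapL_eq, allLt_iff, nthL_eq, Nat.add_eq] at h
  obtain ⟨⟨⟨h1, h2⟩, h3, h4⟩, h5⟩ := h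
  have hr : ∀ x, ∀ q < 56, rc (FF uc x) q = dot x (vec (uc.getD q 0)) := fun x q hq => by
    by_cases e : q < 28
    · rw [rc_re _ e, FF, her_re, ix_px q e]
    · obtain ⟨k, rfl⟩ := Nat.exists_eq_add_of_le (not_lt.1 e)
      rw [rc_im, FF, her_im, ix_px k (by omega), isU_spec (h5 k (by omega))]; rfl
  refine ⟨fun x => ?_, fun c => ⟨?_, fun q hq => hr _ q hq ▸ dot_vec_lt _ _⟩⟩
  · have h6 := congrArg (dotH x) (orth_sum h4 x)
    rw [map_list_sum, map_zsmul, List.map_map, List.map_map, sum_getD, h3] at h6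
    rw [norm_eq, norm_eq x, show 4 * 4 * dot x x = (16 : ℤ) • dotH x x from rfl, ← h6]
    refine sum_congr rfl fun q hq => ?_
    rw [hr x q (mem_range.1 hq), Function.comp_apply, Function.comp_apply, map_zsmul]
    exact congrArg _ (dot_comm _ _)
  · rw [linS_eq h2, linC_rows h1, h3]
    exact sum_congr rfl fun q hq => by rw [hr _ q (mem_range.1 hq)]

end Cfsg.Agent.RuL
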