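import Cfsg.Agent.RuL.Dat

/-! The Rudvalis lattice (helper26): a basis `bc` with dual basis `dc`, the induction principle `L_ind`, membership
test `mem_L`, integrality `dvd4`, `dvd8`, parity words `sel_EE`. -/

set_option autoImplicit false
set_option maxRecDepth 100000
set_option exponentiation.threshold 100000

namespace Cfsg.Agent.RuL

open Cfsg.Spor Cfsg.Agent.Comp

def mp : ℕ → RuVec → RuVec
  | 0, v => gI • v
  | 1, v => ruRj v
  | 2, v => ruRk v
  | 3, v => ruSign v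
  | _, v => ruShift v

theorem mp_mem (k : ℕ) {v : RuVec} (h : v ∈ ruLattice) : mp k v ∈ ruLattice :=
  AddSubgroup.mem_sInf.2 fun L hL => by
    obtain ⟨h0, h1, h2, h3, h4⟩ := hL.2 v (AddSubgroup.mem_sInf.1 h L hL)
    unfold mp; split <;> assumption

theorem mp_add (k : ℕ) (x y : RuVec) : mp k (x + y) = mp k x + mp k y := by
  funext ⟨n, t⟩
  rcases k with _ | _ | _ | _ | k
  · exact congrFun (smul_add gI x y) _
  · fin_cases t <;> simp [mp, ruRj, mul_add, add_comm]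
  · fin_cases t <;> simp [mp, ruRk, mul_add, add_comm]
  · simp only [mp, ruSign, Pi.add_apply]; split_ifs; exacts [neg_add _ _, rfl]
  · rfl

noncomputable def apW (w : List ℕ) (v : RuVec) : RuVec := List.rec (motive := fun _ => RuVec) v (fun k _ ih => mp k ih) w

theorem apW_mem (w : List ℕ) {v : RuVec} (h : v ∈ ruLattice) : apW w v ∈ ruLattice := by
  induction w with
  | nil => exact h
  | cons k w ih => exact mp_mem k ih

theorem hCD : rowsOk dc CD = true := by decide +kernel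

theorem hCB : rowsOk bc CB = true := by decide +kernel

theorem hT : allLt 20 (fun i => band (eqV (ruTable.getD i 0) (nthL 0 tcs i)) (memT CD (nthL 0 tcs i))) = true := by
  decide +kernel

theorem hB : allLt 56 (fun j => band (Nat.blt (nthL 0 bi j) 20)
    (eqV (apW (nthL [] bw j) (vec (nthL 0 tcs (nthL 0 bi j)))) (nthL 0 bc j))) = true := by decide +kernel

theorem hI : allLt 5 (fun k => allLt 56 fun j => force (nthL 0 (nthL [] ims k) j) fun c =>
    band (eqV (mp k (vec (nthL 0 bc j))) c) (memT CD c)) = true := by decide +kernel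

theorem hO : orthOk (bc.zip dc) 4 = true := by decide +kernel

theorem hG : allLt 56 (fun j => force (nthL 0 bc j) fun c => band (band (memT CB c) (decide (dot (vec c) (vec c) = 16)))
    (Nat.beq (EE (vec c)) (xs (fun i => nthL 0 ge i >>> 65) (tb (nthL 0 sels j)) (List.range 19)))) = true := by
  decide +kernel

theorem ex_bc {c : ℕ} (h : c ∈ bc) : ∃ j < 56, nthL 0 bc j = c := by
  obtain ⟨j, hj, rfl⟩ := List.getElem_of_mem h
  exact ⟨j, hj, by rw [nthL_eq, List.getD_eq_getElem]⟩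

theorem tab_spec {i : ℕ} (hi : i < 20) : ruTable.getD i 0 = vec (nthL 0 tcs i) ∧ memT CD (nthL 0 tcs i) = true := by
  have h := allLt_iff.1 hT i hi
  rw [band_eq, Bool.and_eq_true] at h
  exact ⟨eqV_spec h.1, h.2⟩

theorem bc_mem {c : ℕ} (h : c ∈ bc) : vec c ∈ ruLattice := by
  obtain ⟨j, hj, rfl⟩ := ex_bc h
  have h1 := allLt_iff.1 hB j hj
  rw [band_eq, Bool.and_eq_true, nblt] at h1
  rw [← eqV_spec h1.2, ← (tab_spec h1.1).1, List.getD_eq_getElem _ _ h1.1]
  exact apW_mem _ (AddSubgroup.mem_sInf.2 fun L hL => hL.1 _ (List.getElem_mem _))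

theorem dot_neg (x y : RuVec) : dot (-x) y = -dot x y := (dotH y).map_neg x

theorem dot_zero (y : RuVec) : dot 0 y = 0 := (dotH y).map_zero

def Lp : AddSubgroup RuVec where
  carrier := {x | ∀ d ∈ dc, 4 ∣ dot x (vec d)}
  zero_mem' := fun d _ => dot_zero (vec d) ▸ dvd_zero 4
  add_mem' := fun hx hy d hd => dot_add _ _ _ ▸ dvd_add (hx d hd) (hy d hd)
  neg_mem' := fun hx d hd => dot_neg _ _ ▸ (hx d hd).neg_right

def SP : AddSubgroup RuVec := AddSubgroup.closure {v | ∃ c ∈ bc, vec c = v}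

theorem Lp_le : Lp ≤ SP := fun x hx => by
  have h1 : (4 : ℤ) • ((bc.zip dc).map fun p => (dot x (vec p.2) / 4) • vec p.1).sum = (4 : ℤ) • x := by
    rw [← orth_sum hO x, List.smul_sum, List.map_map]
    refine congrArg _ (List.map_congr_left fun p hp => ?_)
    rw [Function.comp_apply, smul_smul, Int.mul_ediv_cancel' (hx _ (List.of_mem_zip hp).2)]
  rw [← smul_right_injective _ (by norm_num : (4 : ℤ) ≠ 0) h1]
  refine list_sum_mem fun v hv => ?_
  obtain ⟨p, hp, rfl⟩ := List.mem_map.1 hv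
  have : vec p.1 ∈ SP := AddSubgroup.subset_closure ⟨_, (List.of_mem_zip hp).1, rfl⟩
  exact zsmul_mem this _

theorem SP_le : SP ≤ ruLattice := (AddSubgroup.closure_le _).2 fun _ ⟨_, hc, e⟩ => e ▸ bc_mem hc

theorem mem_Lp {c : ℕ} (h : memT CD c = true) : vec c ∈ Lp := memT_spec hCD rfl h

theorem L_le : ruLattice ≤ Lp := sInf_le <| by
  have key : ∀ k < 5, ∀ v ∈ Lp, mp k v ∈ Lp := fun k hk v hv =>
    (AddSubgroup.closure_le (Lp.comap (AddMonoidHom.mk' (mp k) (mp_add k)))).2 (fun _ h => by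
      obtain ⟨c, hc, e⟩ : ∃ c ∈ bc, vec c = _ := h
      obtain ⟨j, hj, rfl⟩ := ex_bc hc
      have h1 := allLt_iff.1 (allLt_iff.1 hI k hk) j hj
      rw [force_eq, band_eq, Bool.and_eq_true] at h1
      show mp k _ ∈ Lp
      rw [← e, eqV_spec h1.1]; exact mem_Lp h1.2) (Lp_le hv)
  refine ⟨fun v hv => ?_, fun v hv => ⟨key 0 (by decide) v hv, key 1 (by decide) v hv, key 2 (by decide) v hv,
    key 3 (by decide) v hv, key 4 (by decide) v hv⟩⟩
  obtain ⟨i, hi, rfl⟩ := List.getElem_of_mem hv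
  rw [← List.getD_eq_getElem _ 0 hi, (tab_spec hi).1]
  exact mem_Lp (tab_spec hi).2

theorem mem_L {c : ℕ} (h : memT CD c = true) : vec c ∈ ruLattice := SP_le (Lp_le (mem_Lp h))

theorem L_ind {p : RuVec → Prop} (hb : ∀ j < 56, p (vec (nthL 0 bc j))) (h0 : p 0)
    (ha : ∀ x ∈ ruLattice, ∀ y ∈ ruLattice, p x → p y → p (x + y)) (hn : ∀ x ∈ ruLattice, p x → p (-x)) :
    ∀ x ∈ ruLattice, p x := fun _ hx =>
  AddSubgroup.closure_induction (p := fun x _ => p x)
    (fun _ (h : ∃ c ∈ bc, vec c = _) => by obtain ⟨_, hc, e⟩ := h; obtain ⟨j, hj, rfl⟩ := ex_bc hc; exact e ▸ hb j hj) h0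
    (fun x y hx hy => ha x (SP_le hx) y (SP_le hy)) (fun x hx => hn x (SP_le hx)) (Lp_le (L_le hx))

theorem bc_spec {j : ℕ} (hj : j < 56) : vec (nthL 0 bc j) ∈ ruLattice ∧ memT CB (nthL 0 bc j) = true ∧
    ruNorm (vec (nthL 0 bc j)) = 16 ∧ ∃ m, Sel (ge.map (· >>> 65)) m (EE (vec (nthL 0 bc j))) := by
  have h := allLt_iff.1 hG j hj
  simp only [force_eq, band_eq, Bool.and_eq_true, decide_eq_true_eq, nbeq] at h
  refine ⟨bc_mem (nthL_eq 0 bc j ▸ List.getD_eq_getElem bc 0 hj ▸ List.getElem_mem _), h.1.1, norm_eq _ ▸ h.1.2, ?_⟩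
  rw [h.2, show ge.map (· >>> 65) = (List.range 19).map fun i => nthL 0 ge i >>> 65 by decide +kernel]
  exact ⟨_, xs_sel _ _ _⟩

theorem dvd4 : ∀ x ∈ ruLattice, ∀ y ∈ ruLattice, 4 ∣ dot x y := by
  have key : ∀ y, (∀ j < 56, 4 ∣ dot (vec (nthL 0 bc j)) y) → ∀ x ∈ ruLattice, 4 ∣ dot x y := fun y h =>
    L_ind h (dot_zero y ▸ dvd_zero 4) (fun _ _ _ _ h h' => dot_add _ _ _ ▸ dvd_add h h')
      fun _ _ h => dot_neg _ _ ▸ h.neg_right
  refine fun x hx y hy => key y (fun j hj => dot_comm _ _ ▸ key _ (fun i hi => ?_) y hy) x hx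
  exact memT_spec hCB rfl (bc_spec hi).2.1 _ (nthL_eq 0 bc j ▸ List.getD_eq_getElem bc 0 hj ▸ List.getElem_mem _)

theorem norm_neg' (x : RuVec) : ruNorm (-x) = ruNorm x := by simp [ruNorm]

theorem dvd8 : ∀ x ∈ ruLattice, 8 ∣ ruNorm x :=
  L_ind (fun j hj => by rw [(bc_spec hj).2.2.1]; decide) (by simp [ruNorm])
    (fun x hx y hy h h' => by have := dvd4 x hx y hy; rw [norm_add]; omega) fun x _ h => norm_neg' x ▸ h

theorem sel_EE : ∀ x ∈ ruLattice, ∃ m, Sel (ge.map (· >>> 65)) m (EE x) :=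
  L_ind (fun _ hj => (bc_spec hj).2.2.2) ⟨0, EE_zero ▸ .zero _⟩ (fun _ _ _ _ ⟨_, h⟩ ⟨_, h'⟩ => EE_add _ _ ▸ h.xor h')
    fun x _ h => (EE_neg x).symm ▸ h

theorem smul_eq (u : GaussianInt) (x : RuVec) : u • x = u.re • x + u.im • gI • x := by
  funext p; ext <;> simp [gI] <;> ring

theorem smul_mem (u : GaussianInt) {x : RuVec} (h : x ∈ ruLattice) : u • x ∈ ruLattice :=
  smul_eq u x ▸ add_mem (zsmul_mem h _) (zsmul_mem (gI_smul_mem_ruLattice h) _)

end Cfsg.Agent.RuL
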