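import Cfsg.Agent.RuL.DatF
import Cfsg.Agent.RuL.DatL
import Cfsg.Agent.Known.RuTab
import Cfsg.Agent.Known.Bridge2

/-! The Rudvalis lattice (helper26): the tests `genT` (a generator permutes the lines), `ipT` (inner products determine
the basic orbits), `lvT` (levels). -/

set_option autoImplicit false
set_option maxRecDepth 100000
set_option exponentiation.threshold 100000

namespace Cfsg.Agent.RuL

open Cfsg.Spor Cfsg.Agent.Comp Cfsg.Agent.Known

noncomputable def act2 (j : ℕ) : ℕ → ℕ := actW RuT.act (nthL [] us j)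

theorem mdl2 : Mdl Spor.MdRu.φ 4060 2 145926144000 (fun j => W RuT.y (nthL [] us j)) act2 [1,1379,2476,4048,2697,0] :=
  RuT.mdl.words2 us 3 defs (by decide +kernel) (by decide +kernel)

noncomputable def genT (S : List ℤ) (bt j x : ℕ) : Bool :=
  force (tc x) fun c => force (act2 j x) fun z => force (tc z) fun c' =>
    Nat.beq (Int.natAbs (linS S c)) (Int.natAbs (Int.mul (Int.ofNat 4) (linS (bif' (tb bt x) Si S1) c')))

noncomputable def NN (c : ℕ) : ℕ := Int.toNat (Int.emod (linS SV c) (Int.ofNat (Nat.pow 8192 66)))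

noncomputable def ipT (z : ℕ) : Bool :=
  force (tc z) fun c => force (NN c) fun n => allL LS fun e => force (Nat.mod n e.1) fun r =>
    bif' (memL r e.2.1) (force (e.2.2.pos z) fun i => band (Nat.blt i e.2.2.n) (Nat.beq (e.2.2.pt i) z)) true

noncomputable def lv (k : ℕ) : ℕ × List ℕ × Lv := nthL (0, [], .triv 0 0 0) LS k

noncomputable def bs (k : ℕ) : List ℕ := Nat.rec (motive := fun _ => List ℕ) [] (fun k ih => (lv k).2.2.b :: ih) k

noncomputable def lvT (k : ℕ) : Bool :=
  band (band (band (Nat.blt (lv k).2.2.b 4060) (Nat.blt 0 (lv k).2.2.n))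
    (allL (lv k).2.2.ws fun w => allL (bs k) fun c => Nat.beq (actW RuT.act w c) c))
    (allLt (lv k).2.2.n ((lv k).2.2.chk RuT.act 4060))

end Cfsg.Agent.RuL
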